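import Cfsg.Agent.H493.RatB.HS
import Cfsg.Agent.H843.IMC.Co2B
import Cfsg.Agent.H831.SmallCoOct
import Cfsg.Agent.KFacts.Co1D4.Main
import Cfsg.Agent.H143.LeechNine
import Cfsg.Agent.S0399
import Cfsg.Agent.CTwoTab.Co1
import Cfsg.Agent.NotCT.Orders

/-!
# S4891, sporadic rows: `Co₂`, `p = 3` (helper493)

No element of prime order different from 3 centralizes a Sylow 3-subgroup (order `3 ^ 6`): `3 ^ 6` does not divide the
orders of the centralizers of the involutions of `Co₁`, and `9` does not divide the order of the centralizer of an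
element of prime order at least 5 (`H143.LeechNine`).  The character of degree 275.
-/

set_option autoImplicit false

namespace Cfsg.Agent.H493.RatB.Co2

open Cfsg Subgroup Cfsg.Agent.H145.BR
open Cfsg.Agent.SporadicA.Co0Mono (signCo0)
open Cfsg.Agent.CoOneType.SignFacts (wt)
open Cfsg.Agent.CoOneType.ClosingFacts (mk mk_mul mk_inv exists_mk mk_eq_one mk_eq)
open Cfsg.Agent.CoOneNWC.OmFacts (Om8 card_om8)
open Cfsg.Agent.KFacts.Co1D4
open Cfsg.Agent.H149.Sp (P5)

universe u

instance finite_co1 : Finite Spor.Co1 :=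
  Nat.finite_of_card_ne_zero (by rw [Cfsg.Agent.S0399.result.2]; norm_num)

theorem not_dvd_octad {o : golayCode} (ho : wt o = 8) :
    ¬ 3 ^ 6 ∣ Nat.card ↥(centralizer ({mk (signCo0 o)} : Set Spor.Co1)) := by
  obtain ⟨π, hπ, hker⟩ := Cfsg.Agent.H831.SmallCo.exists_oct ho
  have h1 := Subgroup.card_eq_card_quotient_mul_card_subgroup π.ker
  rw [hker, Nat.card_congr (QuotientGroup.quotientKerEquivOfSurjective π hπ).toEquiv, card_om8] at h1
  rw [h1]
  norm_num

theorem not_dvd_dodecad {o : golayCode} (ho : wt o = 12) :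
    ¬ 3 ^ 6 ∣ Nat.card ↥(centralizer ({mk (signCo0 o)} : Set Spor.Co1)) := by
  intro h
  have hfin : Finite Cfsg.Agent.SporadicA.Co1Simple.N :=
    Nat.finite_of_card_ne_zero (by rw [Cfsg.Agent.S0399.card_N]; norm_num)
  have hle : centralizer ({mk (signCo0 o)} : Set Spor.Co1) ≤
      (Cfsg.Agent.SporadicA.Co1Simple.N).map (QuotientGroup.mk' (center Co0)) := by
    intro k hk
    obtain ⟨g, rfl⟩ := exists_mk k
    exact ⟨g, DodBal.mem_N ho (mem_centralizer_singleton_iff.1 hk), rfl⟩
  have h1 := (Subgroup.card_dvd_of_le hle).trans (Subgroup.card_map_dvd _ _)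
  rw [Cfsg.Agent.S0399.card_N] at h1
  have h2 := h.trans h1
  norm_num at h2

theorem not_dvd_w : ¬ 3 ^ 6 ∣ Nat.card ↥(centralizer ({TwoB.w} : Set Spor.Co1)) := by
  intro h
  have h1 := Main.setup.card
  rw [GTwo.card_L] at h1
  have hle : GTwo.L ≤ centralizer ({TwoB.w} : Set Spor.Co1) := fun l hl =>
    mem_centralizer_singleton_iff.2 (Main.setup.Lw l hl)
  obtain ⟨k, hk⟩ := Subgroup.card_dvd_of_le hle
  rw [GTwo.card_L] at hk
  have hk8 : k ≤ 8 := by omega
  rw [hk] at h
  interval_cases k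
  · have := Nat.card_pos (α := ↥(centralizer ({TwoB.w} : Set Spor.Co1)))
    omega
  all_goals norm_num at h

theorem not_dvd_co1 (s : Spor.Co1) (hs : orderOf s = 2) :
    ¬ 3 ^ 6 ∣ Nat.card ↥(centralizer ({s} : Set Spor.Co1)) := by
  obtain ⟨g, t, ht, rfl⟩ := CTwoTab.Co1.exists_rep s hs
  have h1 : Nat.card ↥(centralizer ({g * t * g⁻¹} : Set Spor.Co1)) = Nat.card ↥(centralizer ({t} : Set Spor.Co1)) := by
    have h2 : (centralizer ({t} : Set Spor.Co1)).map (MulAut.conj g).toMonoidHom =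
        centralizer ({g * t * g⁻¹} : Set Spor.Co1) := by
      ext x
      rw [mem_centralizer_singleton_iff]
      constructor
      · rintro ⟨y, hy, rfl⟩
        have hy' := mem_centralizer_singleton_iff.1 hy
        show g * y * g⁻¹ * (g * t * g⁻¹) = g * t * g⁻¹ * (g * y * g⁻¹)
        calc g * y * g⁻¹ * (g * t * g⁻¹) = g * (y * t) * g⁻¹ := by group
          _ = g * (t * y) * g⁻¹ := by rw [hy']
          _ = _ := by group
      · intro hx
        refine ⟨g⁻¹ * x * g, mem_centralizer_singleton_iff.2 ?_, ?_⟩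
        · calc g⁻¹ * x * g * t = g⁻¹ * (x * (g * t * g⁻¹)) * g := by group
            _ = g⁻¹ * (g * t * g⁻¹ * x) * g := by rw [hx]
            _ = _ := by group
        · show g * (g⁻¹ * x * g) * g⁻¹ = x
          group
    rw [← h2]
    exact Subgroup.card_map_of_injective (MulAut.conj g).injective
  rw [h1]
  rcases ht with ⟨o, ho, rfl⟩ | ⟨o, ho, rfl⟩ | rfl
  · exact not_dvd_octad ho
  · exact not_dvd_dodecad ho
  · exact not_dvd_w

theorem card_co2 : Nat.card Spor.Co2 = 42305421312000 := Cfsg.Agent.NotCT.Orders.co2 ⟨MulEquiv.refl _⟩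

instance finite_co2 : Finite Spor.Co2 := Nat.finite_of_card_ne_zero (by rw [card_co2]; norm_num)

theorem leechU_ne : Spor.leechU ≠ 0 := by
  intro h
  have h1 := congrArg (fun v : leechLattice => (v : GolayPt → ℤ) none) h
  have h2 : Spor.vecU none = 0 := h1
  simp [Spor.vecU] at h2

/-- `Co₂` embeds in `Co₁` -/
theorem exists_hom : ∃ ψ : Spor.Co2 →* Spor.Co1, Function.Injective ψ := by
  refine ⟨(QuotientGroup.mk' (Subgroup.center Co0)).comp
    (Subgroup.inclusion (show Spor.Co2 ≤ Co0 from inf_le_left)), ?_⟩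
  rw [injective_iff_map_eq_one]
  intro g hg
  have h1 : Subgroup.inclusion (show Spor.Co2 ≤ Co0 from inf_le_left) g ∈
      Subgroup.center Co0 := (QuotientGroup.eq_one_iff _).1 hg
  rcases SporadicA.Co0Basic.eq_one_or_neg_of_mem_center h1 with h2 | h2
  · apply Subtype.ext
    exact congrArg (fun t : Co0 => (t : Equiv.Perm leechLattice)) h2
  · exfalso
    have h3 : (g : Equiv.Perm leechLattice) Spor.leechU = Spor.leechU := g.2.2
    have h4 : (g : Equiv.Perm leechLattice) = (SporadicA.Co0Basic.negCo0 : Equiv.Perm leechLattice) :=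
      congrArg (fun t : Co0 => (t : Equiv.Perm leechLattice)) h2
    rw [h4, SporadicA.Co0Basic.negCo0_apply] at h3
    have h5 : -(Spor.vecU none) = Spor.vecU none :=
      congrArg (fun v : leechLattice => (v : GolayPt → ℤ) none) h3
    simp [Spor.vecU] at h5

theorem not_dvd (y : Spor.Co2) (hy : (orderOf y).Prime) (hy3 : orderOf y ≠ 3) :
    ¬ 3 ^ 6 ∣ Nat.card ↥(centralizer ({y} : Set Spor.Co2)) := by
  have hd : orderOf y ∣ Nat.card Spor.Co2 := orderOf_dvd_natCard y
  have hm : orderOf y ∈ [2, 3, 5, 7, 11, 23] := by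
    rw [card_co2] at hd
    have h1 : orderOf y ∣ ([2, 3, 5, 7, 11, 23] : List ℕ).prod ^ 18 := hd.trans (by norm_num)
    have h2 := hy.dvd_of_dvd_pow h1
    have h3 : orderOf y ∣ 2 * (3 * (5 * (7 * (11 * 23)))) := by simpa using h2
    have key : ∀ {q : ℕ}, q.Prime → orderOf y ∣ q → orderOf y = q := fun hq h =>
      (Nat.prime_dvd_prime_iff_eq hy hq).1 h
    simp only [List.mem_cons, List.not_mem_nil, or_false]
    rcases hy.dvd_mul.1 h3 with h | h
    · exact Or.inl (key (by norm_num) h)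
    rcases hy.dvd_mul.1 h with h | h
    · exact Or.inr (Or.inl (key (by norm_num) h))
    rcases hy.dvd_mul.1 h with h | h
    · exact Or.inr (Or.inr (Or.inl (key (by norm_num) h)))
    rcases hy.dvd_mul.1 h with h | h
    · exact Or.inr (Or.inr (Or.inr (Or.inl (key (by norm_num) h))))
    rcases hy.dvd_mul.1 h with h | h
    · exact Or.inr (Or.inr (Or.inr (Or.inr (Or.inl (key (by norm_num) h)))))
    · exact Or.inr (Or.inr (Or.inr (Or.inr (Or.inr (key (by norm_num) h)))))
  by_cases h2 : orderOf y = 2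
  · intro h
    obtain ⟨ψ, hψ⟩ := exists_hom
    refine not_dvd_co1 (ψ y) (by rw [orderOf_injective ψ hψ]; exact h2) (h.trans ?_)
    rw [← Subgroup.card_map_of_injective hψ (K := centralizer ({y} : Set Spor.Co2))]
    refine Subgroup.card_dvd_of_le ?_
    rintro _ ⟨x, hx, rfl⟩
    rw [mem_centralizer_singleton_iff, ← map_mul, ← map_mul]
    exact congrArg ψ (mem_centralizer_singleton_iff.1 hx)
  · intro h
    have hr : P5 (orderOf y) := by
      simp only [List.mem_cons, List.not_mem_nil, or_false] at hm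
      unfold P5
      omega
    refine Cfsg.Agent.H143.LeechNine.not_nine (v := Spor.leechU)
      (φ := (Subgroup.inclusion (inf_le_left : Spor.Co2 ≤ Co0)).comp (centralizer ({y} : Set Spor.Co2)).subtype)
      (x := ⟨y, mem_centralizer_singleton_iff.2 rfl⟩) (r := orderOf y) ?_ leechU_ne (fun h => h.1.2.2) hr ?_ ?_
      ((by norm_num : (9 : ℕ) ∣ 3 ^ 6).trans h)
    · exact (Subgroup.inclusion_injective (inf_le_left : Spor.Co2 ≤ Co0)).comp (Subgroup.subtype_injective _)
    · rw [Subgroup.orderOf_mk]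
    · intro g
      exact Subtype.ext (mem_centralizer_singleton_iff.1 g.2)

theorem witR_model : WitR 3 Spor.Co2 := by
  have : Fact (Nat.Prime 3) := ⟨Nat.prime_three⟩
  obtain ⟨χ₁, χ₂, h1, -, -, h4⟩ := H968.Imc.exists_pair Cfsg.Agent.H843.IMC.Co2B.r3
    (fun a _ => decide (a ≠ 1 ∧ a % 3 ≠ 0)) (by decide +kernel)
  rw [decide_eq_true_eq] at h4
  refine witR_of_card (p := 3) (a := 6) (by rw [card_co2]; norm_num) not_dvd χ₁ (fun h0 => ?_)
    (fun h5 => h4.2 (Nat.mod_eq_zero_of_dvd h5)) fun g => ?_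
  · apply h4.1
    have h5 : ((charDegree (χ₁ : Spor.Co2 → ℂ) : ℕ) : ℂ) = 1 := by
      rw [← Blocks.Basic.irr_one_eq_charDegree χ₁.2, h0]
    exact_mod_cast h5
  · obtain ⟨z, hz⟩ := h1 g
    exact ⟨(z : ℚ), by rw [hz]; push_cast; rfl⟩

/-- **`Co₂`**, `p = 3` -/
theorem witR_co2 {S : Type*} [Group S] (h : Spor.IsoCo2 S) : WitR 3 S := by
  obtain ⟨e⟩ := h
  have : Finite S := Finite.of_equiv _ e.symm.toEquiv
  exact WitR.congr e witR_model

end Cfsg.Agent.H493.RatB.Co2
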