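import Cfsg.Agent.H493.RatB.Deg
import Cfsg.Agent.H968.Imc.RankThreeRat
import Cfsg.Agent.H305.SporHS
import Cfsg.Agent.HN.AutHS

/-!
# S4891, sporadic rows: rank three groups, `p` divides the degree; `HS`, `p = 5` (helper493)
-/

set_option autoImplicit false

namespace Cfsg.Agent.H493.RatB

open Cfsg Cfsg.Agent.H145.BR Cfsg.Agent.Characters.Core

universe u v

/-- **rank 3**, `p` divides the degree: a rational valued witness -/
theorem witR_of_r3 {p : ℕ} [hp : Fact p.Prime] {G : Type u} [Group G] [Finite G] {X : Type v} [MulAction G X]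
    {R : X → X → Prop} {k l : ℕ} (h : H690.Spor.RankThree.R3 G X R k l) (hd : p ∣ 1 + k + l)
    (hc : H968.Imc.chkP k l (fun _ _ => true) = true) : WitR p G := by
  classical
  have hX : Finite X := Nat.finite_of_card_ne_zero (by rw [h.cardn]; omega)
  have hne : Nonempty X := by
    rw [← not_isEmpty_iff]
    intro hE
    have h1 := h.cardn
    rw [Nat.card_of_isEmpty] at h1
    omega
  have htr := h.trans
  have := Fintype.ofFinite G
  obtain ⟨χ₁, χ₂, h1, h2, h3, -⟩ := H968.Imc.exists_pair h _ hc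
  have hr : ∀ {χ : G → ℂ}, (∀ g, ∃ z : ℤ, χ g = z) → RatV χ := fun h g => by
    obtain ⟨z, hz⟩ := h g
    exact ⟨(z : ℚ), by rw [hz]; push_cast; rfl⟩
  refine witR_of_sum (X := X) (by rw [h.cardn]; exact hd) (Finset.univ : Finset (Fin 2)) (fun _ => 1)
    ![χ₁, χ₂] (fun g => ?_) fun i _ _ => ?_
  · rw [Fin.sum_univ_two]
    show (Nat.card (MulAction.fixedBy X g) : ℂ) = _
    rw [h3 g]
    simp only [Matrix.cons_val_zero, Matrix.cons_val_one]
    push_cast
    ring
  · fin_cases i
    · exact hr h1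
    · exact hr h2

open Cfsg.Agent.HN.HS100 in
/-- **`HS`**, `p = 5` (and `2`) -/
theorem witR_hs {S : Type u} [Group S] (h : Spor.IsoHS S) {p : ℕ} [hp : Fact p.Prime] (hp' : p ∣ 100) :
    WitR p S := by
  obtain ⟨e⟩ := h
  obtain ⟨⟨f⟩, hs⟩ := HN.AutHS.nonempty_Q
  have hcQ : Nat.card ↥Q = 44352000 := HN.AutBound.card_Q
  have hfin : Finite ↥Q := Nat.finite_of_card_ne_zero (by rw [hcQ]; norm_num)
  have e' := e.trans f.symm
  have : Finite S := Finite.of_equiv _ e'.symm.toEquiv
  exact WitR.congr e' (witR_of_r3 H305.SporHS.r3 hp' (by decide +kernel))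

end Cfsg.Agent.H493.RatB
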