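import Cfsg.Agent.H145.BR.Defs
import Cfsg.Agent.H145.BR.CountDefs
import Cfsg.Agent.H116.RatB0.StB0
import Cfsg.Agent.H684.Principal
import Cfsg.Agent.S0157

/-!
# S4891 (TEAM B0-RAT), sporadic rows: tools (helper493)

`WitS p S` : for every `p`-modular ideal there is a witness (a nontrivial `p`-rational irreducible character of degree
prime to `p` in the principal `p`-block). For a sporadic group (and the Tits group) and `p` odd this is the row
`RowT p S` (`rowT_of_index`), since the `p`-automorphisms are inner.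

* `witS_of_cent`   : `C_S(U)` is a `p`-group for some `p`-subgroup `U`: any nontrivial `p`-rational `p'`-degree character;
* `witS_of_card`   : the same, with `U` a Sylow subgroup and the orders of centralizers of elements of prime order;
* `witS_of_value`  : `U` a `p`-subgroup, `χ y ≡ χ 1` modulo `p` for the `p`-regular elements `y` of `C_S(U)`;
* `exists_of_dvd`  : `p` divides the degree of a transitive action: a constituent `χ ≠ 1` in the principal block of
  degree prime to `p`;
* `witS_of_dvd`, `witS_of_sum` : the same, the constituents of degree prime to `p` being `p`-rational.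
-/

set_option autoImplicit false

namespace Cfsg.Agent.H493.RatB

open Cfsg Subgroup Cfsg.Agent.Blocks Cfsg.Agent.Blocks.Blau Cfsg.Agent.H145.BR Cfsg.Agent.Characters.Core
open scoped ComplexConjugate

universe u v w

/-- for every `p`-modular ideal there is a witness -/
def WitS (p : ℕ) (S : Type u) [Group S] : Prop := ∀ M : Ideal AlgInt, IsPModular p M → ∃ θ : IrrCharacter S, Wit p M S θ

/-- `p`-automorphisms are inner, `p` odd, `|Out(S)| ≤ 2` -/
theorem mem_range_of_pow {p : ℕ} [hp : Fact p.Prime] (hp2 : p ≠ 2) {S : Type u} [Group S]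
    (h2 : (MulAut.conj : S →* MulAut S).range.index ≤ 2) (h0 : (MulAut.conj : S →* MulAut S).range.index ≠ 0)
    {a : MulAut S} {k : ℕ} (ha : a ^ p ^ k = 1) : a ∈ (MulAut.conj : S →* MulAut S).range := by
  have hn : (MulAut.conj : S →* MulAut S).range.Normal := by
    constructor
    rintro _ ⟨s, rfl⟩ b
    refine ⟨b s, ?_⟩
    ext x
    simp only [MulAut.conj_apply, MulAut.mul_apply, map_mul, map_inv]
    rw [MulAut.apply_inv_self]
  rw [← QuotientGroup.eq_one_iff]
  have h1 : ((a : MulAut S ⧸ (MulAut.conj : S →* MulAut S).range)) ^ 2 = 1 := by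
    have h3 : (MulAut.conj : S →* MulAut S).range.index ∣ 2 := by
      interval_cases h : (MulAut.conj : S →* MulAut S).range.index
      · exact absurd rfl h0
      · exact one_dvd _
      · exact dvd_refl _
    have h4 : ((a : MulAut S ⧸ (MulAut.conj : S →* MulAut S).range)) ^ (MulAut.conj : S →* MulAut S).range.index = 1 := by
      rw [Subgroup.index]
      exact pow_card_eq_one'
    obtain ⟨c, hc⟩ := h3
    rw [hc, pow_mul, h4, one_pow]
  have h2' : ((a : MulAut S ⧸ (MulAut.conj : S →* MulAut S).range)) ^ p ^ k = 1 := by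
    rw [← QuotientGroup.mk_pow, ha, QuotientGroup.mk_one]
  have h5 : Nat.gcd 2 (p ^ k) = 1 := by
    refine Nat.Coprime.pow_right k ?_
    exact (Nat.coprime_primes Nat.prime_two hp.out).2 (Ne.symm hp2)
  have h6 := Nat.dvd_gcd (orderOf_dvd_of_pow_eq_one h1) (orderOf_dvd_of_pow_eq_one h2')
  rw [h5, Nat.dvd_one, orderOf_eq_one_iff] at h6
  exact h6

theorem rowT_of_index {p : ℕ} [hp : Fact p.Prime] (hp2 : p ≠ 2) {S : Type u} [Group S]
    (h2 : (MulAut.conj : S →* MulAut S).range.index ≤ 2) (h0 : (MulAut.conj : S →* MulAut S).range.index ≠ 0)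
    (h : WitS p S) : RowT p S := by
  intro A hA M hM
  obtain ⟨θ, hθ⟩ := h M hM
  refine ⟨θ, hθ, fun a ha x => ?_⟩
  obtain ⟨k, hk⟩ := hA ⟨a, ha⟩
  have hk' : a ^ p ^ k = 1 := by simpa using congrArg Subtype.val hk
  obtain ⟨s, rfl⟩ := mem_range_of_pow hp2 h2 h0 hk'
  rw [MulAut.conj_apply]
  exact isIrr_isClassFunction θ.2 x s

/-- finite groups: the index is not zero -/
theorem rowT_of_witS {p : ℕ} [hp : Fact p.Prime] (hp2 : p ≠ 2) {S : Type u} [Group S] [Finite S]
    (h2 : (MulAut.conj : S →* MulAut S).range.index ≤ 2) (h : WitS p S) : RowT p S :=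
  rowT_of_index hp2 h2 Subgroup.index_ne_zero_of_finite h

/-! ### membership in the principal block -/

theorem mem_of_value {G : Type u} [Group G] [Finite G] {p : ℕ} [hp : Fact p.Prime] {M : Ideal AlgInt}
    (hM : IsPModular p M) {U : Subgroup G} (hU : IsPGroup p U) (χ : IrrCharacter G)
    (hχ : ¬ p ∣ charDegree (χ : G → ℂ))
    (hv : ∀ y : G, y ∈ centralizer (U : Set G) → ¬ p ∣ orderOf y → MemLocalIdeal M ((χ : G → ℂ) 1 - (χ : G → ℂ) y)) :
    χ ∈ principalBlock M G := by
  have hprime : M.IsPrime := Blocks.Local.isPrime_of_isPModular hM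
  intro g
  set m : ℕ := Nat.card {y : G // IsConj g y} with hm
  have hdeg := Blocks.Basic.irr_one_eq_charDegree χ.2
  have hd0 : (χ : G → ℂ) 1 ≠ 0 := Blocks.Basic.irr_one_ne_zero χ.2
  apply H684.Principal.memLocalIdeal_of_mul hM hχ
  have e1 : (charDegree (χ : G → ℂ) : ℂ) * (centralChar (fun _ : G => (1 : ℂ)) g -
      centralChar (χ : G → ℂ) g) = m * ((χ : G → ℂ) 1 - (χ : G → ℂ) g) := by
    rw [Blocks.Basic.centralChar_def, Blocks.Basic.centralChar_def, H684.Principal.index_centralizer_eq, ← hm,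
      ← hdeg]
    field_simp
  rw [e1]
  have hint : ∀ x : G, MemLocalRing M ((χ : G → ℂ) x) := fun x =>
    Blocks.LocalRing.memLocalRing_of_isIntegral hM (CharactersDeep.ModCongr.isIntegral_irr χ.2 x)
  by_cases hpm : p ∣ m
  · refine Blocks.LocalRing.memLocalIdeal_mul_right hM ?_
      (Blocks.LocalRing.memLocalRing_sub hM (hint 1) (hint g))
    rwa [Blocks.LocalRing.memLocalIdeal_natCast_iff hM]
  · have h1 := H684.BlockQuot.card_modEq hU (fun y => IsConj g y)
      (fun u _ y hy => (H684.BlockQuot.isConj_conj_iff g y u).2 hy)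
    have h2 : Nonempty {y : G // IsConj g y ∧ y ∈ Subgroup.centralizer (U : Set G)} := by
      by_contra hne
      rw [not_nonempty_iff] at hne
      rw [@Nat.card_of_isEmpty _ hne] at h1
      exact hpm ((Nat.modEq_zero_iff_dvd).1 h1)
    obtain ⟨y, hy1, hy2⟩ := h2
    rw [Blocks.Basic.irr_isConj χ.2 hy1]
    refine Blocks.LocalRing.memLocalIdeal_mul_left hM (Blocks.LocalRing.memLocalRing_natCast hM m) ?_
    obtain ⟨x, hx⟩ := Blocks.PPart.exists_isPPart p y
    have h3 := CharactersDeep.ModCongr.memLocalIdeal_character_sub hM χ.2 y x hx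
    obtain ⟨w, hw1, hw2, ⟨k, hk⟩, hw4⟩ := hx
    have hxy : x⁻¹ * y = w := by rw [← hw1, inv_mul_cancel_left]
    rw [hxy] at h3
    -- `w` is a power of `y`
    have hwC : w ∈ centralizer (U : Set G) := by
      have hco : Nat.Coprime (p ^ k) (orderOf w) := Nat.Coprime.pow_left k ((hp.out.coprime_iff_not_dvd).2 hw4)
      obtain ⟨n, hn1, hn2⟩ := Nat.chineseRemainder hco 0 1
      have h4 : y ^ n = w := by
        rw [← hw1, hw2.mul_pow]
        have h5 : x ^ n = 1 := by
          rw [← orderOf_dvd_iff_pow_eq_one, hk]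
          exact (Nat.modEq_zero_iff_dvd).1 hn1
        have h6 : w ^ n = w := by
          have h7 := (pow_inj_mod (x := w) (n := n) (m := 1)).2 hn2
          rwa [pow_one] at h7
        rw [h5, h6, one_mul]
      rw [← h4]
      exact pow_mem hy2 n
    have h8 := hv w hwC hw4
    have h9 : (χ : G → ℂ) 1 - (χ : G → ℂ) y = ((χ : G → ℂ) 1 - (χ : G → ℂ) w) - ((χ : G → ℂ) y - (χ : G → ℂ) w) := by
      ring
    rw [h9]
    exact Blocks.LocalRing.memLocalIdeal_sub hM h8 h3

/-- the centralizer of a Sylow `p`-subgroup is a `p`-group: sufficient condition by the orders of centralizers -/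
theorem isPGroup_centralizer {G : Type u} [Group G] [Finite G] {p : ℕ} [hp : Fact p.Prime] {a : ℕ}
    (ha : p ^ a ∣ Nat.card G)
    (hc : ∀ y : G, (orderOf y).Prime → orderOf y ≠ p → ¬ p ^ a ∣ Nat.card (centralizer ({y} : Set G))) (P : Sylow p G) :
    IsPGroup p (centralizer ((P : Subgroup G) : Set G)) := by
  have hPa : p ^ a ∣ Nat.card P := P.pow_dvd_card_of_pow_dvd_card ha
  rw [IsPGroup.iff_card]
  have h1 : ∀ q : ℕ, q.Prime → q ∣ Nat.card (centralizer ((P : Subgroup G) : Set G)) → q = p := by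
    intro q hq hd
    by_contra hne
    have := Fact.mk hq
    obtain ⟨y, hy⟩ := exists_prime_orderOf_dvd_card' q hd
    have hy' : orderOf (y : G) = q := by rw [Subgroup.orderOf_coe, hy]
    refine hc y (by rw [hy']; exact hq) (by rw [hy']; exact hne) ?_
    refine hPa.trans (Subgroup.card_dvd_of_le ?_)
    intro x hx
    rw [mem_centralizer_singleton_iff]
    exact (mem_centralizer_iff.1 y.2 x hx)
  exact ⟨_, Nat.eq_prime_pow_of_unique_prime_dvd Nat.card_pos.ne' fun {q} hq hd => h1 q hq hd⟩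

/-- **T2**: the centralizer of some `p`-subgroup is a `p`-group -/
theorem witS_of_cent {S : Type u} [Group S] [Finite S] {p : ℕ} [hp : Fact p.Prime] {U : Subgroup S}
    (hU : IsPGroup p U) (hC : IsPGroup p (centralizer (U : Set S))) (θ : IrrCharacter S)
    (hne : (θ : S → ℂ) ≠ fun _ => 1) (hd : ¬ p ∣ charDegree (θ : S → ℂ)) (hr : PRat p (θ : S → ℂ)) : WitS p S :=
  fun _ hM => ⟨θ, H684.Principal.mem_of_not_dvd hM hU hC θ hd, hne, hd, hr⟩

/-- **T2'**: `|S|_p = p ^ a` does not divide the order of the centralizer of an element of prime order `≠ p` -/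
theorem witS_of_card {S : Type u} [Group S] [Finite S] {p : ℕ} [hp : Fact p.Prime] {a : ℕ}
    (ha : p ^ a ∣ Nat.card S)
    (hc : ∀ y : S, (orderOf y).Prime → orderOf y ≠ p → ¬ p ^ a ∣ Nat.card (centralizer ({y} : Set S)))
    (θ : IrrCharacter S) (hne : (θ : S → ℂ) ≠ fun _ => 1) (hd : ¬ p ∣ charDegree (θ : S → ℂ))
    (hr : PRat p (θ : S → ℂ)) : WitS p S := by
  obtain ⟨P⟩ : Nonempty (Sylow p S) := inferInstance
  exact witS_of_cent P.isPGroup' (isPGroup_centralizer ha hc P) θ hne hd hr

theorem memLocalIdeal_intCast {p : ℕ} {M : Ideal AlgInt} (hM : IsPModular p M) {k : ℤ} (h : (p : ℤ) ∣ k) :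
    MemLocalIdeal M (k : ℂ) := by
  obtain ⟨c, rfl⟩ := h
  have h1 : MemLocalIdeal M ((p : ℕ) : ℂ) := by
    rw [Blocks.LocalRing.memLocalIdeal_natCast_iff hM]
  have h2 : MemLocalRing M (c : ℂ) := by
    refine Blocks.LocalRing.memLocalRing_of_isIntegral hM ?_
    exact isIntegral_algebraMap (R := ℤ) (A := ℂ) (x := c)
  rw [Int.cast_mul, Int.cast_natCast]
  exact Blocks.LocalRing.memLocalIdeal_mul_right hM h1 h2

/-- **T4**: integer values, `χ y ≡ χ 1` modulo `p` for the `p`-regular elements of `C_S(U)` -/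
theorem witS_of_value {S : Type u} [Group S] [Finite S] {p : ℕ} [hp : Fact p.Prime] {U : Subgroup S}
    (hU : IsPGroup p U) (θ : IrrCharacter S) (hne : (θ : S → ℂ) ≠ fun _ => 1) (hd : ¬ p ∣ charDegree (θ : S → ℂ))
    (hr : PRat p (θ : S → ℂ))
    (hv : ∀ y : S, y ∈ centralizer (U : Set S) → ¬ p ∣ orderOf y →
      ∃ k : ℤ, (θ : S → ℂ) y = k ∧ (p : ℤ) ∣ (charDegree (θ : S → ℂ) : ℤ) - k) : WitS p S := by
  intro M hM
  refine ⟨θ, mem_of_value hM hU θ hd fun y hy hy' => ?_, hne, hd, hr⟩
  obtain ⟨k, hk, hk'⟩ := hv y hy hy'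
  rw [Blocks.Basic.irr_one_eq_charDegree θ.2, hk]
  have := memLocalIdeal_intCast hM hk'
  push_cast at this
  exact this

/-! ### actions of degree divisible by `p` -/

theorem permC_eq {G : Type u} [Group G] {X : Type v} [MulAction G X] [MulAction.IsPretransitive G X] (x : X) (g : G) :
    permC G X g = fixedPointCharacter (MulAction.stabilizer G x) g := by
  unfold permC fixedPointCharacter
  congr 1
  refine (Nat.card_congr ?_).symm
  have hb : Function.Bijective (MulAction.ofQuotientStabilizer G x) :=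
    ⟨MulAction.injective_ofQuotientStabilizer G x, fun y => by
      obtain ⟨g, hg⟩ := MulAction.exists_smul_eq G x y
      exact ⟨(g : G ⧸ MulAction.stabilizer G x), hg⟩⟩
  refine (Equiv.ofBijective _ hb).subtypeEquiv fun y => ?_
  show g • y = y ↔ g • MulAction.ofQuotientStabilizer G x y = MulAction.ofQuotientStabilizer G x y
  rw [← MulAction.ofQuotientStabilizer_smul, hb.1.eq_iff]

theorem isCharacter_permC {G : Type u} [Group G] {X : Type v} [Finite X] [MulAction G X] : IsCharacter G (permC G X) :=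
  S0157.isCharacter_fixedBy X

theorem sum_regPart_permC {G : Type u} [Group G] [Fintype G] {X : Type v} [MulAction G X]
    [MulAction.IsPretransitive G X] (x : X) (p : ℕ) : ∑ g : G, regPart p (permC G X) g =
      ((Nat.card X * H116.RatB0.reg p (MulAction.stabilizer G x) : ℕ) : ℂ) := by
  have h1 : permC G X = fixedPointCharacter (MulAction.stabilizer G x) := funext fun g => permC_eq x g
  rw [h1, H116.RatB0.sum_regPart_perm, MulAction.index_stabilizer_of_transitive]

theorem permC_pair {G : Type u} [Group G] [Fintype G] {X : Type v} [Finite X] [MulAction G X]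
    [MulAction.IsPretransitive G X] [Nonempty X] : classInner (permC G X) (fun _ : G => (1 : ℂ)) = 1 := by
  have h1 := S0157.avg_fixedBy (G := G) X
  have h2 := S0157.card_orbits_of_pretransitive G X
  rw [classInner_def]
  simp only [map_one, mul_one]
  unfold permC
  rw [h1, h2, Nat.cast_one]

/-- **`p` divides the degree of a transitive action**: there is a constituent `χ ≠ 1` in the principal block, of degree
prime to `p` -/
theorem exists_of_dvd {G : Type u} [Group G] [Fintype G] {p : ℕ} [hp : Fact p.Prime] {M : Ideal AlgInt}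
    (hM : IsPModular p M) {X : Type v} [Finite X] [MulAction G X] [MulAction.IsPretransitive G X] [Nonempty X]
    (hd : p ∣ Nat.card X) : ∃ χ : IrrCharacter G, χ ∈ principalBlock M G ∧ (χ : G → ℂ) ≠ (fun _ => 1) ∧
      ¬ p ∣ charDegree (χ : G → ℂ) ∧ classInner (permC G X) (χ : G → ℂ) ≠ 0 := by
  classical
  have hprime : M.IsPrime := Blocks.Local.isPrime_of_isPModular hM
  have := finite_irr (G := G)
  have := Fintype.ofFinite (IrrCharacter G)
  obtain ⟨m, hm⟩ := exists_nat_comb (isCharacter_permC (G := G) (X := X))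
  have hpc : ∀ ξ : IrrCharacter G, classInner (permC G X) (ξ : G → ℂ) = m ξ := by
    intro ξ
    rw [hm]
    exact classInner_sum_nsmul_irr m ξ
  obtain ⟨x⟩ := ‹Nonempty X›
  -- the sum over the `p`-regular elements
  let R : ℕ := H116.RatB0.reg p (⊤ : Subgroup G)
  have hR : ¬ p ∣ R := by
    show ¬ p ∣ H116.RatB0.reg p (⊤ : Subgroup G)
    rw [H116.RatB0.reg_top]
    exact Blocks.RegularCount.not_dvd_card_regular
  have hsum : ((Nat.card X * H116.RatB0.reg p (MulAction.stabilizer G x) : ℕ) : ℂ) =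
      ∑ χ : IrrCharacter G, (m χ : ℂ) * ∑ g : G, regPart p (χ : G → ℂ) g := by
    rw [← sum_regPart_permC x p]
    simp_rw [Finset.mul_sum]
    rw [Finset.sum_comm]
    refine Finset.sum_congr rfl fun g _ => ?_
    by_cases hg : p ∣ orderOf g
    · rw [regPart_of_dvd hg, Finset.sum_eq_zero]
      intro χ _
      rw [regPart_of_dvd hg, mul_zero]
    · rw [regPart_of_not_dvd hg]
      conv_lhs => rw [hm]
      simp only [Finset.sum_apply, nsmul_eq_mul, Pi.mul_apply, Pi.natCast_apply]
      refine Finset.sum_congr rfl fun χ _ => ?_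
      rw [regPart_of_not_dvd hg]
  -- congruence for the members of the principal block
  have hmem : ∀ χ : IrrCharacter G, χ ∈ principalBlock M G →
      MemLocalIdeal M (∑ g : G, regPart p (χ : G → ℂ) g - (R : ℂ) * charDegree (χ : G → ℂ)) := by
    intro χ hχ
    have h1 := pair_div_sub_pair_div hM (H893.Sd.one G).2 χ.2 (isIrr_isCharacter (H893.Sd.one G).2) hχ
    have h3 : pair p ((H893.Sd.one G : IrrCharacter G) : G → ℂ) ((H893.Sd.one G : IrrCharacter G) : G → ℂ) =
      (Nat.card {x : G // ¬ p ∣ orderOf x} : ℂ) := H893.Sd.pair_one_one p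
    have h4 : ((H893.Sd.one G : IrrCharacter G) : G → ℂ) 1 = 1 := rfl
    have h5 : pair p (χ : G → ℂ) ((H893.Sd.one G : IrrCharacter G) : G → ℂ) = ∑ g : G, regPart p (χ : G → ℂ) g :=
      H893.Sd.pair_one p _
    have hd0 : (charDegree (χ : G → ℂ) : ℂ) ≠ 0 := by
      exact_mod_cast (Blocks.Basic.charDegree_pos χ.2).ne'
    have hRe : (R : ℂ) = (Nat.card {x : G // ¬ p ∣ orderOf x} : ℂ) := by
      show ((H116.RatB0.reg p (⊤ : Subgroup G) : ℕ) : ℂ) = _
      rw [H116.RatB0.reg_top]
    rw [h3, h4, h5, div_one, ← hRe, Blocks.Basic.irr_one_eq_charDegree χ.2] at h1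
    have h6 := Blocks.LocalRing.memLocalIdeal_mul_left hM
      (Blocks.LocalRing.memLocalRing_natCast hM (charDegree (χ : G → ℂ))) ((Blocks.LocalRing.memLocalIdeal_sub_comm).1 h1)
    have h7 : (charDegree (χ : G → ℂ) : ℂ) * (∑ g : G, regPart p (χ : G → ℂ) g / (charDegree (χ : G → ℂ) : ℂ) - R) =
        ∑ g : G, regPart p (χ : G → ℂ) g - (R : ℂ) * charDegree (χ : G → ℂ) := by
      rw [← Finset.sum_div]
      field_simp
    rw [← Finset.sum_div] at h7
    rw [h7] at h6
    exact h6
  by_contra hcon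
  push Not at hcon
  have hX : MemLocalIdeal M ((Nat.card X * H116.RatB0.reg p (MulAction.stabilizer G x) : ℕ) : ℂ) := by
    rw [Blocks.LocalRing.memLocalIdeal_natCast_iff hM]
    exact hd.mul_right _
  rw [hsum, ← Finset.add_sum_erase Finset.univ _ (Finset.mem_univ (H893.Sd.one G))] at hX
  have hrest : MemLocalIdeal M (∑ χ ∈ Finset.univ.erase (H893.Sd.one G), (m χ : ℂ) * ∑ g : G, regPart p (χ : G → ℂ) g) := by
    refine Blocks.LocalRing.memLocalIdeal_sum hM _ _ fun χ hχ => ?_
    have hχ1 : (χ : G → ℂ) ≠ fun _ => 1 := by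
      intro h
      exact (Finset.mem_erase.1 hχ).1 (Subtype.ext h)
    by_cases hB : χ ∈ principalBlock M G
    · by_cases hdeg : p ∣ charDegree (χ : G → ℂ)
      · refine Blocks.LocalRing.memLocalIdeal_mul_left hM (Blocks.LocalRing.memLocalRing_natCast hM _) ?_
        have h1 := hmem χ hB
        have h2 : MemLocalIdeal M ((R : ℂ) * charDegree (χ : G → ℂ)) := by
          rw [← Nat.cast_mul, Blocks.LocalRing.memLocalIdeal_natCast_iff hM]
          exact hdeg.mul_left _
        have h3 := Blocks.LocalRing.memLocalIdeal_add hM h1 h2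
        rwa [sub_add_cancel] at h3
      · have h1 := hcon χ hB hχ1 hdeg
        rw [hpc] at h1
        rw [h1, zero_mul]
        exact Blocks.LocalRing.memLocalIdeal_zero hM
    · have h1 : ∑ g : G, regPart p (χ : G → ℂ) g = 0 := by
        by_contra hne
        exact hB ((H893.Sd.mem_iff hM χ).2 hne)
      rw [h1, mul_zero]
      exact Blocks.LocalRing.memLocalIdeal_zero hM
  have hone := Blocks.LocalRing.memLocalIdeal_sub hM hX hrest
  rw [add_sub_cancel_right] at hone
  have hm1 : m (H893.Sd.one G) = 1 := by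
    have h1 := hpc (H893.Sd.one G)
    have h2 : classInner (permC G X) ((H893.Sd.one G : IrrCharacter G) : G → ℂ) = 1 := permC_pair
    rw [h2] at h1
    exact_mod_cast h1.symm
  have h1 := hmem (H893.Sd.one G) Blocks.PrincipalSection.one_mem_principalBlock
  rw [hm1, Nat.cast_one, one_mul] at hone
  have h2 := Blocks.LocalRing.memLocalIdeal_sub hM hone h1
  have hdeg1 : charDegree ((H893.Sd.one G : IrrCharacter G) : G → ℂ) = 1 :=
    Blocks.Basic.charDegree_of_eq (by rw [Nat.cast_one]; rfl)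
  rw [sub_sub_cancel, hdeg1, Nat.cast_one, mul_one, Blocks.LocalRing.memLocalIdeal_natCast_iff hM] at h2
  exact hR h2

/-- **T3**: `p` divides the degree of a transitive action, all constituents of degree prime to `p` are `p`-rational -/
theorem witS_of_dvd {S : Type u} [Group S] [Fintype S] {p : ℕ} [hp : Fact p.Prime] {X : Type v} [Finite X]
    [MulAction S X] [MulAction.IsPretransitive S X] [Nonempty X] (hd : p ∣ Nat.card X)
    (hr : ∀ χ : IrrCharacter S, classInner (permC S X) (χ : S → ℂ) ≠ 0 → ¬ p ∣ charDegree (χ : S → ℂ) →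
      (χ : S → ℂ) ≠ (fun _ => 1) → PRat p (χ : S → ℂ)) : WitS p S := by
  intro M hM
  obtain ⟨χ, h1, h2, h3, h4⟩ := exists_of_dvd (G := S) hM (X := X) hd
  exact ⟨χ, h1, h2, h3, hr χ h4 h3 h2⟩

/-- `p`-rationality along an isomorphism -/
theorem PRat.comp {p : ℕ} {S : Type u} [Group S] {T : Type v} [Group T] (e : S ≃* T) {χ : T → ℂ} (h : PRat p χ) :
    PRat p (fun x : S => χ (e x)) := by
  obtain ⟨n, h1, h2⟩ := h
  exact ⟨n, h1, fun g => h2 (e g)⟩

/-- the principal block along an isomorphism (two universes) -/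
theorem mem_principalBlock_comp {M : Ideal AlgInt} {S : Type u} [Group S] [Finite S] {T : Type v} [Group T]
    (e : S ≃* T) {θ : IrrCharacter T} (h1 : θ ∈ principalBlock M T) :
    (⟨_, isIrr_comp (e : S →* T) e.surjective θ.2⟩ : IrrCharacter S) ∈ principalBlock M S := by
  intro g
  have h5 := h1 (e g)
  have e1 : ∀ χ : T → ℂ, centralChar (fun x : S => χ (e x)) g = centralChar χ (e g) := by
    intro χ
    rw [Blocks.Basic.centralChar_def, Blocks.Basic.centralChar_def, map_one]
    have h6 : (Subgroup.centralizer ({g} : Set S)).index = (Subgroup.centralizer ({e g} : Set T)).index := by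
      have h7 : (Subgroup.centralizer ({e g} : Set T)).comap (e : S →* T) = Subgroup.centralizer ({g} : Set S) := by
        ext x
        rw [Subgroup.mem_comap, mem_centralizer_singleton_iff, mem_centralizer_singleton_iff]
        show e x * e g = e g * e x ↔ _
        rw [← map_mul, ← map_mul, e.injective.eq_iff]
      rw [← h7]
      exact Subgroup.index_comap_of_surjective _ e.surjective
    rw [h6]
  have e2 : centralChar (fun _ : S => (1 : ℂ)) g = centralChar (fun _ : T => (1 : ℂ)) (e g) := e1 (fun _ => 1)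
  show MemLocalIdeal M (centralChar (fun _ : S => (1 : ℂ)) g - centralChar (fun x : S => (θ : T → ℂ) (e x)) g)
  rw [e1 (θ : T → ℂ), e2]
  exact h5

/-- transport of the rows along an isomorphism -/
theorem WitS.congr {p : ℕ} {S : Type u} [Group S] [Finite S] {T : Type v} [Group T]
    (e : S ≃* T) (h : WitS p T) : WitS p S := by
  intro M hM
  obtain ⟨θ, h1, h2, h3, h4⟩ := h M hM
  exact ⟨⟨_, isIrr_comp (e : S →* T) e.surjective θ.2⟩, mem_principalBlock_comp e h1, fun h5 => h2 (by
    funext y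
    obtain ⟨x, rfl⟩ := e.surjective y
    exact congrFun h5 x), (by
    show ¬ p ∣ charDegree (fun x : S => (θ : T → ℂ) (e x))
    rw [Blocks.Basic.charDegree_def]
    rw [Blocks.Basic.charDegree_def] at h3
    rwa [map_one]), PRat.comp e h4⟩

/-- **T3'**: the same, from a decomposition of the permutation character (`a χ` may be any natural multiplicities) -/
theorem witS_of_sum {S : Type u} [Group S] [Fintype S] {p : ℕ} [hp : Fact p.Prime] {X : Type v} [Finite X]
    [MulAction S X] [MulAction.IsPretransitive S X] [Nonempty X] (hd : p ∣ Nat.card X) {ι : Type w} (s : Finset ι)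
    (a : ι → ℕ) (χ : ι → IrrCharacter S) (hs : ∀ g : S, permC S X g = 1 + ∑ i ∈ s, (a i : ℂ) * (χ i : S → ℂ) g)
    (hr : ∀ i ∈ s, ¬ p ∣ charDegree (χ i : S → ℂ) → PRat p (χ i : S → ℂ)) : WitS p S := by
  classical
  refine witS_of_dvd hd fun ξ h1 h2 h3 => ?_
  by_contra hne
  apply h1
  have e : permC S X = (fun _ => (1 : ℂ)) + ∑ i ∈ s, (a i : ℂ) • (χ i : S → ℂ) := by
    funext g
    rw [hs g]
    simp only [Pi.add_apply, Finset.sum_apply, Pi.smul_apply, smul_eq_mul]
  rw [e, classInner_add_left, classInner_sum_left]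
  have h4 : classInner (fun _ : S => (1 : ℂ)) (ξ : S → ℂ) = 0 :=
    classInner_irr_ne (H893.Sd.one S).2 ξ.2 (fun h => h3 h.symm)
  rw [h4, zero_add]
  refine Finset.sum_eq_zero fun i hi => ?_
  rw [classInner_smul_left, classInner_irr_ne (χ i).2 ξ.2, mul_zero]
  intro h5
  apply hne
  rw [← h5]
  refine hr i hi ?_
  rw [h5]
  exact h2

/-! ### rational valued witnesses (also for S4857, S4858, S4829) -/

/-- rational valued -/
def RatV {G : Type u} (χ : G → ℂ) : Prop := ∀ g : G, ∃ q : ℚ, χ g = q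

/-- for every `p`-modular ideal there is a nontrivial rational valued irreducible character of degree prime to `p` in the
principal `p`-block -/
def WitR (p : ℕ) (S : Type u) [Group S] : Prop := ∀ M : Ideal AlgInt, IsPModular p M → ∃ θ : IrrCharacter S,
  θ ∈ principalBlock M S ∧ (θ : S → ℂ) ≠ (fun _ => 1) ∧ ¬ p ∣ charDegree (θ : S → ℂ) ∧ RatV (θ : S → ℂ)

theorem RatV.of_int {G : Type u} {χ : G → ℂ} (h : ∀ g : G, ∃ k : ℤ, χ g = k) : RatV χ := fun g => by
  obtain ⟨k, hk⟩ := h g
  exact ⟨k, by rw [hk]; push_cast; rfl⟩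

theorem WitR.witS {p : ℕ} [Fact p.Prime] {S : Type u} [Group S] (h : WitR p S) : WitS p S := by
  intro M hM
  obtain ⟨θ, h1, h2, h3, h4⟩ := h M hM
  exact ⟨θ, h1, h2, h3, pRat_of_rat h4⟩

theorem witR_of_cent {S : Type u} [Group S] [Finite S] {p : ℕ} [hp : Fact p.Prime] {U : Subgroup S}
    (hU : IsPGroup p U) (hC : IsPGroup p (centralizer (U : Set S))) (θ : IrrCharacter S)
    (hne : (θ : S → ℂ) ≠ fun _ => 1) (hd : ¬ p ∣ charDegree (θ : S → ℂ)) (hr : RatV (θ : S → ℂ)) : WitR p S :=
  fun _ hM => ⟨θ, H684.Principal.mem_of_not_dvd hM hU hC θ hd, hne, hd, hr⟩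

theorem witR_of_card {S : Type u} [Group S] [Finite S] {p : ℕ} [hp : Fact p.Prime] {a : ℕ}
    (ha : p ^ a ∣ Nat.card S)
    (hc : ∀ y : S, (orderOf y).Prime → orderOf y ≠ p → ¬ p ^ a ∣ Nat.card (centralizer ({y} : Set S)))
    (θ : IrrCharacter S) (hne : (θ : S → ℂ) ≠ fun _ => 1) (hd : ¬ p ∣ charDegree (θ : S → ℂ))
    (hr : RatV (θ : S → ℂ)) : WitR p S := by
  obtain ⟨P⟩ : Nonempty (Sylow p S) := inferInstance
  exact witR_of_cent P.isPGroup' (isPGroup_centralizer ha hc P) θ hne hd hr

theorem witR_of_value {S : Type u} [Group S] [Finite S] {p : ℕ} [hp : Fact p.Prime] {U : Subgroup S}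
    (hU : IsPGroup p U) (θ : IrrCharacter S) (hne : (θ : S → ℂ) ≠ fun _ => 1) (hd : ¬ p ∣ charDegree (θ : S → ℂ))
    (hr : RatV (θ : S → ℂ))
    (hv : ∀ y : S, y ∈ centralizer (U : Set S) → ¬ p ∣ orderOf y →
      ∃ k : ℤ, (θ : S → ℂ) y = k ∧ (p : ℤ) ∣ (charDegree (θ : S → ℂ) : ℤ) - k) : WitR p S := by
  intro M hM
  refine ⟨θ, mem_of_value hM hU θ hd fun y hy hy' => ?_, hne, hd, hr⟩
  obtain ⟨k, hk, hk'⟩ := hv y hy hy'
  rw [Blocks.Basic.irr_one_eq_charDegree θ.2, hk]
  have := memLocalIdeal_intCast hM hk'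
  push_cast at this
  exact this

theorem witR_of_dvd {S : Type u} [Group S] [Fintype S] {p : ℕ} [hp : Fact p.Prime] {X : Type v} [Finite X]
    [MulAction S X] [MulAction.IsPretransitive S X] [Nonempty X] (hd : p ∣ Nat.card X)
    (hr : ∀ χ : IrrCharacter S, classInner (permC S X) (χ : S → ℂ) ≠ 0 → ¬ p ∣ charDegree (χ : S → ℂ) →
      (χ : S → ℂ) ≠ (fun _ => 1) → RatV (χ : S → ℂ)) : WitR p S := by
  intro M hM
  obtain ⟨χ, h1, h2, h3, h4⟩ := exists_of_dvd (G := S) hM (X := X) hd
  exact ⟨χ, h1, h2, h3, hr χ h4 h3 h2⟩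

/-- **T3'**, rational: the permutation character is `1 + ∑ a i * χ i` -/
theorem witR_of_sum {S : Type u} [Group S] [Fintype S] {p : ℕ} [hp : Fact p.Prime] {X : Type v} [Finite X]
    [MulAction S X] [MulAction.IsPretransitive S X] [Nonempty X] (hd : p ∣ Nat.card X) {ι : Type w} (s : Finset ι)
    (a : ι → ℕ) (χ : ι → IrrCharacter S) (hs : ∀ g : S, permC S X g = 1 + ∑ i ∈ s, (a i : ℂ) * (χ i : S → ℂ) g)
    (hr : ∀ i ∈ s, ¬ p ∣ charDegree (χ i : S → ℂ) → RatV (χ i : S → ℂ)) : WitR p S := by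
  classical
  refine witR_of_dvd hd fun ξ h1 h2 h3 => ?_
  by_contra hne
  apply h1
  have e : permC S X = (fun _ => (1 : ℂ)) + ∑ i ∈ s, (a i : ℂ) • (χ i : S → ℂ) := by
    funext g
    rw [hs g]
    simp only [Pi.add_apply, Finset.sum_apply, Pi.smul_apply, smul_eq_mul]
  rw [e, classInner_add_left, classInner_sum_left]
  have h4 : classInner (fun _ : S => (1 : ℂ)) (ξ : S → ℂ) = 0 :=
    classInner_irr_ne (H893.Sd.one S).2 ξ.2 (fun h => h3 h.symm)
  rw [h4, zero_add]
  refine Finset.sum_eq_zero fun i hi => ?_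
  rw [classInner_smul_left, classInner_irr_ne (χ i).2 ξ.2, mul_zero]
  intro h5
  apply hne
  rw [← h5]
  refine hr i hi ?_
  rw [h5]
  exact h2

/-- transport along an isomorphism -/
theorem WitR.congr {p : ℕ} {S : Type u} [Group S] [Finite S] {T : Type v} [Group T]
    (e : S ≃* T) (h : WitR p T) : WitR p S := by
  intro M hM
  obtain ⟨θ, h1, h2, h3, h4⟩ := h M hM
  exact ⟨⟨_, isIrr_comp (e : S →* T) e.surjective θ.2⟩, mem_principalBlock_comp e h1, fun h5 => h2 (by
    funext y
    obtain ⟨x, rfl⟩ := e.surjective y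
    exact congrFun h5 x), (by
    show ¬ p ∣ charDegree (fun x : S => (θ : T → ℂ) (e x))
    rw [Blocks.Basic.charDegree_def]
    rw [Blocks.Basic.charDegree_def] at h3
    rwa [map_one]), fun g => h4 (e g)⟩

end Cfsg.Agent.H493.RatB
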