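import Cfsg.Agent.H493.RatB.WitS
import Cfsg.Agent.Characters.GaloisIrr

/-!
# S4891, sporadic rows: constituents determined by their degrees are rational (helper493)

* `ratV_of_unique`  : `π` a rational valued character, `χ` the only irreducible constituent of its degree: `χ` is rational
  valued;
* `witR_of_degrees` : a transitive action of degree divisible by `p` whose permutation character is a sum of irreducible
  characters `χ i` such that those of degree prime to `p` are determined by their degree.
-/

set_option autoImplicit false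

namespace Cfsg.Agent.H493.RatB

open Cfsg Subgroup Cfsg.Agent.Blocks Cfsg.Agent.H145.BR Cfsg.Agent.Characters.Core Cfsg.Agent.Characters
open scoped ComplexConjugate

universe u v w

theorem charDegree_map {G : Type u} [Group G] (σ : ℂ ≃+* ℂ) {χ : G → ℂ} (hχ : IsIrrCharacter G χ) :
    charDegree (fun g => σ (χ g)) = charDegree χ := by
  refine Blocks.Basic.charDegree_of_eq ?_
  rw [Blocks.Basic.irr_one_eq_charDegree hχ, map_natCast]

/-- **an irreducible constituent determined by its degree is rational valued** -/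
theorem ratV_of_unique {G : Type u} [Group G] [Fintype G] {π : G → ℂ} (hr : RatV π)
    (χ : IrrCharacter G) (h : classInner π (χ : G → ℂ) ≠ 0)
    (hu : ∀ ψ : IrrCharacter G, classInner π (ψ : G → ℂ) ≠ 0 → charDegree (ψ : G → ℂ) = charDegree (χ : G → ℂ) →
      ψ = χ) : RatV (χ : G → ℂ) := by
  intro g
  have hint : IsIntegral ℚ ((χ : G → ℂ) g) :=
    (CharactersDeep.ModCongr.isIntegral_irr χ.2 g).tower_top
  refine GaloisBasic.exists_rat_of_forall_ringEquiv hint fun σ => ?_
  have h1 : IsIrrCharacter G (fun g => σ ((χ : G → ℂ) g)) := GaloisIrr.isIrr_map σ χ.2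
  have h2 : classInner π (fun g => σ ((χ : G → ℂ) g)) ≠ 0 := by
    have h3 := GaloisIrr.classInner_map σ (χ := π) (isIrr_isCharacter χ.2)
    have h4 : (fun g => σ (π g)) = π := by
      funext g
      obtain ⟨q, hq⟩ := hr g
      rw [hq]
      exact map_ratCast σ q
    rw [h4] at h3
    rw [h3]
    intro h5
    exact h ((map_eq_zero σ).1 h5)
  have h3 := hu ⟨_, h1⟩ h2 (charDegree_map σ χ.2)
  exact congrFun (congrArg Subtype.val h3) g

theorem ratV_permC {G : Type u} [Group G] {X : Type v} [MulAction G X] : RatV (permC G X) := fun g =>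
  ⟨(Nat.card (MulAction.fixedBy X g) : ℚ), by unfold permC; push_cast; rfl⟩

/-- the irreducible constituents of a sum of irreducible characters -/
theorem eq_of_constituent {G : Type u} [Group G] [Fintype G] {π : G → ℂ} {ι : Type w} (s : Finset ι) (χ : ι → G → ℂ)
    (hirr : ∀ i ∈ s, IsIrrCharacter G (χ i)) (hs : ∀ g, π g = ∑ i ∈ s, χ i g) {ψ : G → ℂ} (hψ : IsIrrCharacter G ψ)
    (h : classInner π ψ ≠ 0) : ∃ i ∈ s, χ i = ψ := by
  by_contra hcon
  push Not at hcon
  apply h
  have e : π = ∑ i ∈ s, χ i := by
    funext g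
    rw [hs g, Finset.sum_apply]
  rw [e, classInner_sum_left]
  exact Finset.sum_eq_zero fun i hi => classInner_irr_ne (hirr i hi) hψ (hcon i hi)

/-- the constituents of a permutation character which are determined by their degrees are rational valued -/
theorem ratV_of_sum {G : Type u} [Group G] [Fintype G] {X : Type v} [Finite X] [MulAction G X] {ι : Type w}
    (s : Finset ι) (χ : ι → G → ℂ) (hirr : ∀ i ∈ s, IsIrrCharacter G (χ i)) (hs : ∀ g, permC G X g = ∑ i ∈ s, χ i g)
    {i : ι} (hi : i ∈ s) (hu : ∀ j ∈ s, charDegree (χ j) = charDegree (χ i) → χ j = χ i) : RatV (χ i) := by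
  classical
  refine ratV_of_unique (π := permC G X) ratV_permC ⟨χ i, hirr i hi⟩ ?_ ?_
  · have := finite_irr (G := G)
    have := Fintype.ofFinite (IrrCharacter G)
    have e : permC G X = ∑ i ∈ s, χ i := by
      funext g
      rw [hs g, Finset.sum_apply]
    rw [e, classInner_sum_left, ← Finset.add_sum_erase s _ hi, classInner_irr_self (hirr i hi)]
    have h1 : ∀ j ∈ s.erase i, ∃ n : ℕ, classInner (χ j) (χ i) = n := fun j hj =>
      classInner_isNat (isIrr_isCharacter (hirr j (Finset.mem_of_mem_erase hj))) (isIrr_isCharacter (hirr i hi))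
    choose! n hn using h1
    rw [Finset.sum_congr rfl hn, ← Nat.cast_sum]
    exact_mod_cast (by omega : 1 + ∑ j ∈ s.erase i, n j ≠ 0)
  · intro ψ h1 h2
    obtain ⟨j, hj, hj'⟩ := eq_of_constituent s χ hirr hs ψ.2 h1
    apply Subtype.ext
    rw [← hj']
    exact hu j hj (by rw [hj']; exact h2)

/-- **T3''**: `p` divides the degree of a transitive action, the permutation character is the sum of irreducible
characters, those of degree prime to `p` being determined by their degrees -/
theorem witR_of_degrees {S : Type u} [Group S] [Fintype S] {p : ℕ} [hp : Fact p.Prime] {X : Type v} [Finite X]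
    [MulAction S X] [MulAction.IsPretransitive S X] [Nonempty X] (hd : p ∣ Nat.card X) {ι : Type w} (s : Finset ι)
    (χ : ι → S → ℂ) (hirr : ∀ i ∈ s, IsIrrCharacter S (χ i)) (hs : ∀ g : S, permC S X g = ∑ i ∈ s, χ i g)
    (hu : ∀ i ∈ s, ∀ j ∈ s, ¬ p ∣ charDegree (χ i) → charDegree (χ j) = charDegree (χ i) → χ j = χ i) : WitR p S := by
  refine witR_of_dvd hd fun ψ h1 h2 _ => ?_
  obtain ⟨i, hi, hi'⟩ := eq_of_constituent s χ hirr hs ψ.2 h1
  rw [← hi'] at h2 ⊢
  exact ratV_of_sum s χ hirr hs hi fun j hj => hu i hi j hj h2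

end Cfsg.Agent.H493.RatB
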