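import Cfsg.Agent.H493.RatB.SporAsm
import Cfsg.Agent.H493.RatB.Co1
import Cfsg.Agent.H493.RatB.McL
import Cfsg.Agent.H493.RatB.HS
import Cfsg.Agent.H968.Rat.RowMathieu
import Cfsg.Agent.H968.Rat.RowLarge
import Cfsg.Agent.H968.Rat.RowFi
import Cfsg.Agent.H305.RatB.JThree
import Cfsg.Agent.H762.RatB.J4
import Cfsg.Agent.H84.RatB.J4
import Cfsg.Agent.H848.RatB.Co3
import Cfsg.Agent.H528.RatB.He
import Cfsg.Agent.H315.RatB.ON
import Cfsg.Agent.H788.RatB.Ly
import Cfsg.Agent.H68.RatB.HN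
import Cfsg.Agent.H630.RatB.B
import Cfsg.Agent.H740.RatM.Perm
import Cfsg.Agent.H493.RatB.Co2
import Cfsg.Agent.H528.RatB.J2
import Cfsg.Agent.H68.RatB.Ru
import Cfsg.Agent.H978.RatB.Th

/-!
# S4891: the field `spor` of `H145.BR.Rows` (helper493)
-/

set_option autoImplicit false

namespace Cfsg.Agent.H493.RatB

open Cfsg Cfsg.Agent.H145.BR

theorem sporRows : SporRows where
  m12_3 h := H968.Rat.core_m12 h
  m24_3 h := H968.Rat.core_m24 h
  j2_3 h := H528.RatB.J2.j2_three h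
  j3_3 h := (H305.RatB.witR_J3 h).witS
  j4_3 h := (H762.RatB.J4.witR_j4 h).witS
  j4_11 h := (H84.RatB.J4.witR_j4_eleven h).witS
  co1_3 h := (Co1.witR_co1 h (by norm_num)).witS
  co1_5 h := (Co1.witR_co1 h (by norm_num)).witS
  co2_3 h := (Co2.witR_co2 h).witS
  co2_5 h := H968.Rat.core_co2 h (by norm_num)
  co3_3 h := (H848.RatB.Co3.witR_three h).witS
  co3_5 h := (H848.RatB.Co3.witR_five h).witS
  mcl_3 h := (McL.witR_mcl h (by norm_num)).witS
  mcl_5 h := (McL.witR_mcl h (by norm_num)).witS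
  hs_5 h := (witR_hs h (by norm_num)).witS
  suz_3 h := H968.Rat.core_suz h (by norm_num)
  he_3 h := (H528.RatB.He.he_three h).witS
  he_7 h := (H528.RatB.He.he_seven h).witS
  ru_3 h := H68.RatB.Ru.witS_ru_three h
  ru_5 h := H968.Rat.core_ru h (by norm_num)
  on_3 h := (H315.RatB.ON.witR_three h).witS
  on_7 h := (H315.RatB.ON.witR_seven h).witS
  ly_3 h := (H788.RatB.LyRow.witR_three h).witS
  ly_5 h := (H788.RatB.LyRow.witR_five h).witS
  fi22_3 {S} _ h := by
    have : Finite S := Nat.finite_of_card_ne_zero (by rw [NotCT.Orders.fi22 h]; norm_num)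
    exact H968.Rat.core_fi22 h (by norm_num)
  fi23_3 h := H968.Rat.core_fi23 h
  fi24_3 h := H968.Rat.core_fi24 h (by norm_num)
  fi24_7 h := H968.Rat.core_fi24 h (by norm_num)
  hn_3 h := (H68.RatB.witR_hn_three h).witS
  hn_5 h := (H68.RatB.witR_hn_five h).witS
  th_3 h := (H978.RatB.th_three h).witS
  th_5 h := (H978.RatB.th_five h).witS
  b_3 h := H630.RatB.witS_b_three h
  b_5 h := H630.RatB.witS_b_five h
  m_3 h := (H740.RatM.witR_m_three h).witS
  m_5 h := (H740.RatM.witR_m_five h).witS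
  m_7 h := (H740.RatM.witR_m_seven h).witS
  m_13 h := by
    have : Fact (Nat.Prime 13) := ⟨by norm_num⟩
    exact (H740.RatM.witR_m_thirteen h).witS

/-- **the field `spor`** -/
theorem rows_spor {p : ℕ} [Fact p.Prime] (h2 : p ≠ 2) : RowForT p (fun X _ => IsSporadicGroup X) := sporRows.spor h2

end Cfsg.Agent.H493.RatB
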