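import Cfsg.Agent.H493.RatB.SporAsm
import Cfsg.Agent.H505.RatB.Tits

/-!
# S4891: the field `tits` of `H145.BR.Rows` (helper493)
-/

set_option autoImplicit false

namespace Cfsg.Agent.H493.RatB

open Cfsg Cfsg.Agent.H145.BR

/-- **the field `tits`** -/
theorem rows_tits {p : ℕ} [Fact p.Prime] (h2 : p ≠ 2) : RowForT p (fun X _ => Lie.IsoTits X) :=
  tits_of (fun h => (H505.RatB.Tits.witR_three h).witS) h2

end Cfsg.Agent.H493.RatB
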