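import Cfsg.Agent.H493.RatB.WitS
import Cfsg.Agent.H700.PRat
import Cfsg.Agent.S4710
import Cfsg.Agent.S4712
import Cfsg.Agent.S4646
import Cfsg.Agent.S4888
import Cfsg.Agent.H634.Cols

/-!
# S4891: Sylow subgroups of order `p²` (helper493)

`|S|_p = p ^ 2`, `p` odd, `S` not `p`-nilpotent: by S4712 the number of `p`-rational characters of the principal block is at
least `l(B₀) ≥ 2`, and by the theorem of Brauer and Feit (S4710) all the characters of the principal block have degree
prime to `p`.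

* `pRat_of_pow`  : `p`-rational in the sense of S4712 implies `PRat`;
* `exists_pRat`  : `G` not `p`-nilpotent, `p` odd: a nontrivial `p`-rational character in the principal block;
* `witS_of_sq`   : `WitS p S` if `|S|_p = p ^ 2`.
-/

set_option autoImplicit false

namespace Cfsg.Agent.H493.RatB

open Cfsg Subgroup Cfsg.Agent.Blocks Cfsg.Agent.H145.BR Cfsg.Agent.Characters.Core Cfsg.Agent.Characters
open H700.PRat (zet zet_prim fix_adjoin mem_adjoin_of_forall fix_root)

universe u v

/-- `p`-rational in the sense of power maps -/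
theorem pRat_of_pow {G : Type u} [Group G] [Finite G] {p : ℕ} [hp : Fact p.Prime] {χ : G → ℂ} (hχ : IsCharacter G χ)
    (h : ∀ k : ℕ, Nat.Coprime k (Nat.card G) → k ≡ 1 [MOD Nat.card G / p ^ (Nat.card G).factorization p] →
      ∀ g : G, χ (g ^ k) = χ g) : PRat p χ := by
  set n := Nat.card G / p ^ (Nat.card G).factorization p with hn
  have hN : Nat.card G ≠ 0 := Nat.card_pos.ne'
  have hpn : ¬ p ∣ n := Nat.not_dvd_ordCompl hp.out hN
  have hn0 : n ≠ 0 := by
    intro h0
    exact hpn (by rw [h0]; exact dvd_zero p)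
  have hnd : n ∣ Nat.card G := Nat.ordCompl_dvd _ _
  refine ⟨n, hpn, fun g => ?_⟩
  refine mem_adjoin_of_forall (GaloisBasic.isIntegral_apply hχ g).tower_top fun σ hσ => ?_
  obtain ⟨m, hm, hσm⟩ := GaloisBasic.exists_coprime_pow (σ : ℂ →+* ℂ) hN
  have h1 : zet n ^ Nat.card G = 1 := by
    obtain ⟨c, hc⟩ := hnd
    rw [hc, pow_mul, (zet_prim hn0).pow_eq_one, one_pow]
  have h2 : zet n ^ m = zet n ^ 1 := by
    rw [pow_one]
    have h3 := hσm (zet n) h1
    rw [← h3]
    exact hσ
  have h4 : m ≡ 1 [MOD n] := by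
    have hz : IsUnit (zet n) := (zet_prim hn0).isUnit hn0
    obtain ⟨u, hu⟩ := hz
    have hup : IsPrimitiveRoot u n := by
      have h8 := zet_prim hn0
      rw [← hu] at h8
      exact IsPrimitiveRoot.coe_units_iff.1 h8
    have h6 : u ^ m = u ^ 1 := by
      apply Units.ext
      rw [Units.val_pow_eq_pow_val, Units.val_pow_eq_pow_val, hu]
      exact h2
    have h7 := pow_eq_pow_iff_modEq.1 h6
    rwa [← hup.eq_orderOf] at h7
  have h7 := GaloisBasic.map_apply_card σ (fun z hz => hσm z hz) hχ g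
  rw [h7]
  exact h m hm h4 g

/-- **a nontrivial `p`-rational character in the principal block** -/
theorem exists_pRat {G : Type u} [Group G] [Finite G] {p : ℕ} [hp : Fact p.Prime] (hp2 : p ≠ 2) {M : Ideal AlgInt}
    (hM : IsPModular p M) (h : ¬ HasNormalPComplement p G) :
    ∃ χ : IrrCharacter G, χ ∈ principalBlock M G ∧ (χ : G → ℂ) ≠ (fun _ => 1) ∧ PRat p (χ : G → ℂ) := by
  classical
  have hfin := finite_irr (G := G)
  have h1 := S4712.result p hp2 M hM (principalBlock M G) ⟨H893.Sd.one G, rfl⟩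
  have h2 : 2 ≤ blockRank p (principalBlock M G) := by
    have h3 := Cfsg.Agent.H634.Cols.blockRank_pos (G := G) (p := p) hM
    by_contra hcon
    have := Fintype.ofFinite G
    exact h (S4646.compl_of_rank_one hM (by omega))
  set X := {χ : IrrCharacter G // χ ∈ principalBlock M G ∧ ∀ k : ℕ, Nat.Coprime k (Nat.card G) →
    k ≡ 1 [MOD Nat.card G / p ^ (Nat.card G).factorization p] → ∀ g : G, (χ : G → ℂ) (g ^ k) = (χ : G → ℂ) g} with hX
  have h3 : 1 < Nat.card X := lt_of_lt_of_le (by omega) (h2.trans h1)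
  have : Finite X := Subtype.finite
  have h4 : Nontrivial X := (Finite.one_lt_card_iff_nontrivial).1 h3
  have hMp := Blocks.Local.isPrime_of_isPModular hM
  let o : X := ⟨H893.Sd.one G, PrincipalSection.one_mem_principalBlock, fun _ _ _ _ => rfl⟩
  obtain ⟨⟨χ, hχ1, hχ2⟩, hne⟩ := exists_ne o
  refine ⟨χ, hχ1, fun h5 => hne ?_, pRat_of_pow (isIrr_isCharacter χ.2) hχ2⟩
  exact Subtype.ext (Subtype.ext h5)

/-- **Brauer–Feit**: `|G|_p ≤ p ^ 2`: the characters of the principal block have degree prime to `p` -/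
theorem not_dvd_of_sq {G : Type u} [Group G] [Finite G] {p : ℕ} [hp : Fact p.Prime] {M : Ideal AlgInt}
    (hM : IsPModular p M) (h : (Nat.card G).factorization p ≤ 2) {χ : IrrCharacter G} (hχ : χ ∈ principalBlock M G) :
    ¬ p ∣ charDegree (χ : G → ℂ) := by
  have h1 := (S4710.result p M hM (principalBlock M G) ⟨H893.Sd.one G, rfl⟩ _ (S4888.blockDefect_principal p hM)).2 χ hχ
  rw [S4888.blockHeight_principal p hM] at h1
  rw [← S4888.factorization_eq_zero_iff' hp.out (Blocks.Basic.charDegree_pos χ.2)]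
  rcases le_or_gt 2 ((Nat.card G).factorization p) with h2 | h2
  · have := h1.2 h2
    omega
  · exact h1.1 (by omega)

/-- **`|S|_p = p ^ 2`** -/
theorem witS_of_sq {S : Type u} [Group S] [Finite S] {p : ℕ} [hp : Fact p.Prime] (hp2 : p ≠ 2)
    (h : (Nat.card S).factorization p ≤ 2) (hn : ¬ HasNormalPComplement p S) : WitS p S := by
  intro M hM
  obtain ⟨χ, h1, h2, h3⟩ := exists_pRat hp2 hM hn
  exact ⟨χ, h1, h2, not_dvd_of_sq hM h h1, h3⟩

/-- a nonabelian simple group of order divisible by `p` is not `p`-nilpotent -/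
theorem not_hasNormalPComplement {S : Type u} [Group S] [Finite S] [IsSimpleGroup S] {p : ℕ} [hp : Fact p.Prime]
    (hna : ¬ IsMulCommutative S) (hd : p ∣ Nat.card S) : ¬ HasNormalPComplement p S := by
  rintro ⟨P, N, hN, hNP⟩
  rcases hN.eq_bot_or_eq_top with h | h
  · subst h
    have h1 : (P : Subgroup S) = ⊤ := Subgroup.isComplement'_bot_left.1 hNP
    have h2 : IsPGroup p S := by
      have h3 := P.isPGroup'
      rw [h1] at h3
      exact h3.of_equiv Subgroup.topEquiv
    have h4 := h2.isNilpotent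
    have h5 := IsSimpleGroup.comm_iff_isSolvable.2 (inferInstance : Group.IsSolvable S)
    exact hna ⟨⟨h5⟩⟩
  · subst h
    have h1 : (P : Subgroup S) = ⊥ := Subgroup.isComplement'_top_left.1 hNP
    have h2 := P.dvd_card_of_dvd_card hd
    rw [h1, Subgroup.card_bot] at h2
    exact hp.out.one_lt.ne' (Nat.dvd_one.1 h2)

theorem witS_of_sq' {S : Type u} [Group S] [Finite S] [IsSimpleGroup S] {p : ℕ} [hp : Fact p.Prime] (hp2 : p ≠ 2)
    (hna : ¬ IsMulCommutative S) (hd : p ∣ Nat.card S) (h : (Nat.card S).factorization p ≤ 2) : WitS p S :=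
  witS_of_sq hp2 h (not_hasNormalPComplement hna hd)

end Cfsg.Agent.H493.RatB
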