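import Cfsg.Agent.Characters.Core
import Cfsg.Agent.Characters.Clifford
import Mathlib.LinearAlgebra.Trace

/-!
# Constituents of multiplicity one over a normal subgroup (helper493, for S4891)

`N` normal in `G`, `π` a character of `G`, `ψ` a `G`-invariant irreducible character of `N` with `[π_N, ψ] = 1`.

* `exists_ext` : there is exactly one irreducible constituent `χ` of `π` over `ψ`; it extends `ψ` and
  `χ y = ψ 1 / |N| * ∑ n ∈ N, ψ n * π (y * n⁻¹)`.
-/

set_option autoImplicit false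

namespace Cfsg.Agent.H493.RatB

open Cfsg Cfsg.Agent.Characters.Core Cfsg.Agent.Characters.Clifford
open scoped ComplexConjugate

/-- convolution of an irreducible character with itself -/
theorem conv {N : Type*} [Group N] [Fintype N] {ψ : N → ℂ} (hψ : IsIrrCharacter N ψ) (l : N) :
    ∑ n : N, ψ n * ψ (n⁻¹ * l) = (Nat.card N : ℂ) / ψ 1 * ψ l := by
  classical
  have hcl := isIrr_isClassFunction hψ
  have h1 := isIrr_apply_one_ne_zero hψ
  have hself := classInner_irr_self hψ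
  have hinv := isCharacter_apply_inv (isIrr_isCharacter hψ)
  obtain ⟨d, σ, hσ, rfl⟩ := hψ
  obtain ⟨c, hc⟩ := exists_sum_smul_rho_inv_eq_smul_one hcl σ hσ
  have key : ∀ l : N, ∑ n : N, σ.character n * σ.character (n⁻¹ * l) = c * σ.character l := by
    intro l
    have h2 := congrArg (fun T => LinearMap.trace ℂ (Fin d → ℂ) (T * σ l)) hc
    simp only [Finset.sum_mul, map_sum, smul_mul_assoc, one_mul, map_smul, smul_eq_mul, ← map_mul] at h2
    exact h2
  have h3 := key 1
  have h4 : ∑ n : N, σ.character n * σ.character (n⁻¹ * 1) = (Nat.card N : ℂ) := by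
    rw [classInner_def] at hself
    have h5 : ∑ g : N, σ.character g * conj (σ.character g) = (Nat.card N : ℂ) := by
      have h6 : (Nat.card N : ℂ) ≠ 0 := card_ne_zero_complex
      field_simp at hself
      exact hself
    rw [← h5]
    refine Finset.sum_congr rfl fun n _ => ?_
    rw [mul_one, hinv]
  rw [h4] at h3
  rw [key l, h3, mul_div_assoc, div_self h1, mul_one]

section proj

variable {G : Type*} [Group G] {N : Subgroup G} [Fintype N] {V : Type*} [AddCommGroup V] [Module ℂ V]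
  (ρ : Representation ℂ G V) {ψ : N → ℂ}

/-- the projection onto the `ψ`-isotypic part -/
noncomputable def pr (ψ : N → ℂ) : Module.End ℂ V :=
  (ψ 1 / (Nat.card N : ℂ)) • ∑ n : N, ψ n • ρ ((n : G)⁻¹)

theorem pr_idem (hψ : IsIrrCharacter N ψ) : IsIdempotentElem (pr ρ ψ) := by
  classical
  have hcl := isIrr_isClassFunction hψ
  have h1 := isIrr_apply_one_ne_zero hψ
  have hN : (Nat.card N : ℂ) ≠ 0 := card_ne_zero_complex
  unfold pr IsIdempotentElem
  rw [smul_mul_smul_comm]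
  have h2 : (∑ n : N, ψ n • ρ ((n : G)⁻¹)) * (∑ n : N, ψ n • ρ ((n : G)⁻¹)) =
      ((Nat.card N : ℂ) / ψ 1) • ∑ n : N, ψ n • ρ ((n : G)⁻¹) := by
    rw [Finset.sum_mul_sum, Finset.smul_sum]
    calc ∑ i : N, ∑ j : N, (ψ i • ρ ((i : G)⁻¹)) * (ψ j • ρ ((j : G)⁻¹))
        = ∑ i : N, ∑ l : N, (ψ i * ψ (i⁻¹ * l)) • ρ ((l : G)⁻¹) := by
          refine Finset.sum_congr rfl fun i _ => ?_
          refine Fintype.sum_equiv (Equiv.mulRight i) _ _ fun j => ?_
          rw [smul_mul_smul_comm, ← map_mul, Equiv.coe_mulRight]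
          congr 2
          · have h3 := hcl (i⁻¹ * (j * i)) i
            rw [← h3]
            group
          · rw [Subgroup.coe_mul, mul_inv_rev]
      _ = ∑ l : N, ∑ i : N, (ψ i * ψ (i⁻¹ * l)) • ρ ((l : G)⁻¹) := Finset.sum_comm
      _ = _ := by
          refine Finset.sum_congr rfl fun l _ => ?_
          rw [← Finset.sum_smul, conv hψ, smul_smul]
  rw [h2, smul_smul]
  congr 1
  field_simp

theorem trace_pr [FiniteDimensional ℂ V] :
    LinearMap.trace ℂ V (pr ρ ψ) = ψ 1 / (Nat.card N : ℂ) * ∑ n : N, ψ n * ρ.character ((n : G)⁻¹) := by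
  unfold pr
  rw [map_smul, map_sum, smul_eq_mul]
  congr 1
  refine Finset.sum_congr rfl fun n _ => ?_
  rw [map_smul]
  rfl

theorem trace_mul_pr [FiniteDimensional ℂ V] (y : G) :
    LinearMap.trace ℂ V (ρ y * pr ρ ψ) = ψ 1 / (Nat.card N : ℂ) * ∑ n : N, ψ n * ρ.character (y * (n : G)⁻¹) := by
  unfold pr
  rw [mul_smul_comm, Finset.mul_sum, map_smul, map_sum, smul_eq_mul]
  congr 1
  refine Finset.sum_congr rfl fun n _ => ?_
  rw [mul_smul_comm, map_smul, smul_eq_mul, ← map_mul]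
  rfl

end proj

section main

variable {G : Type*} [Group G] [Fintype G] {N : Subgroup G} [Fintype N]

theorem classInner_eq_inv {ξ : G → ℂ} (hξ : IsCharacter G ξ) (ψ : N → ℂ) :
    classInner ψ (fun n : N => ξ n) = (Nat.card N : ℂ)⁻¹ * ∑ n : N, ψ n * ξ ((n : G)⁻¹) := by
  rw [classInner_def]
  congr 1
  refine Finset.sum_congr rfl fun n _ => ?_
  rw [isCharacter_apply_inv hξ]

/-- characters without constituents over `ψ` -/
theorem sum_eq_zero_of_not_over {ξ : G → ℂ} (hξ : IsCharacter G ξ) {ψ : N → ℂ} (hψ : IsIrrCharacter N ψ)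
    (h0 : classInner (fun n : N => ξ n) ψ = 0) (y : G) : ∑ n : N, ψ n * ξ (y * (n : G)⁻¹) = 0 := by
  have h1 := isIrr_apply_one_ne_zero hψ
  have hN : (Nat.card N : ℂ) ≠ 0 := card_ne_zero_complex
  have h2 := classInner_eq_inv hξ ψ
  rw [← classInner_conj_symm, h0, map_zero] at h2
  obtain ⟨d, ρ, rfl⟩ := hξ
  have h3 : LinearMap.trace ℂ _ (pr ρ ψ) = 0 := by
    rw [trace_pr, div_eq_mul_inv, mul_assoc, ← h2, mul_zero]
  have h4 : pr ρ ψ = 0 := LinearMap.IsIdempotentElem.eq_zero_of_trace_eq_zero (pr_idem ρ hψ) h3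
  have h5 := trace_mul_pr ρ (ψ := ψ) y
  rw [h4, mul_zero, map_zero] at h5
  have h6 : ψ 1 / (Nat.card N : ℂ) ≠ 0 := div_ne_zero h1 hN
  exact (mul_eq_zero.1 h5.symm).resolve_left h6

/-- characters extending `ψ` -/
theorem sum_eq_of_extends {ξ : G → ℂ} (hξ : IsCharacter G ξ) {ψ : N → ℂ} (hψ : IsIrrCharacter N ψ)
    (h0 : ∀ n : N, ξ n = ψ n) (y : G) : ψ 1 / (Nat.card N : ℂ) * ∑ n : N, ψ n * ξ (y * (n : G)⁻¹) = ξ y := by
  have h1 := isIrr_apply_one_ne_zero hψ
  have hN : (Nat.card N : ℂ) ≠ 0 := card_ne_zero_complex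
  have h2 := classInner_eq_inv hξ ψ
  have h2' : (fun n : N => ξ n) = ψ := funext h0
  rw [h2', classInner_irr_self hψ] at h2
  have hξ1 : ξ 1 = ψ 1 := h0 1
  obtain ⟨d, ρ, rfl⟩ := hξ
  have h3 : LinearMap.trace ℂ _ (pr ρ ψ) = ψ 1 := by
    rw [trace_pr, div_eq_mul_inv, mul_assoc, ← h2, mul_one]
  have h4 : LinearMap.trace ℂ _ (1 - pr ρ ψ) = 0 := by
    rw [map_sub, h3, LinearMap.trace_one, ← Representation.char_one ρ, hξ1, sub_self]
  have h5 : 1 - pr ρ ψ = 0 :=
    LinearMap.IsIdempotentElem.eq_zero_of_trace_eq_zero (pr_idem ρ hψ).one_sub h4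
  have h6 : pr ρ ψ = 1 := (sub_eq_zero.1 h5).symm
  have h7 := trace_mul_pr ρ (ψ := ψ) y
  rw [h6, mul_one] at h7
  exact h7.symm

/-- **The constituent over a character of multiplicity one** -/
theorem exists_ext [N.Normal] {π : G → ℂ} (hπ : IsCharacter G π) {ψ : N → ℂ} (hψ : IsIrrCharacter N ψ)
    (hinv : ∀ (g : G) (n : N), ψ (MulAut.conjNormal g n) = ψ n)
    (h1 : classInner (fun n : N => π n) ψ = 1) :
    ∃ χ : G → ℂ, IsIrrCharacter G χ ∧ (∀ n : N, χ n = ψ n) ∧ classInner π χ = 1 ∧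
      (∀ y : G, χ y = ψ 1 / (Nat.card N : ℂ) * ∑ n : N, ψ n * π (y * (n : G)⁻¹)) ∧
      ∀ χ' : G → ℂ, IsIrrCharacter G χ' → classInner π χ' ≠ 0 → classInner (fun n : N => χ' n) ψ ≠ 0 → χ' = χ := by
  classical
  have := finite_irr (G := G)
  have := Fintype.ofFinite (IrrCharacter G)
  obtain ⟨m, hm⟩ := exists_nat_comb hπ
  choose b hb using fun ξ : IrrCharacter G =>
    classInner_isNat (isCharacter_restrict N (isIrr_isCharacter ξ.2)) (isIrr_isCharacter hψ)
  have hπN : (fun n : N => π n) = ∑ ξ : IrrCharacter G, (m ξ : ℂ) • (fun n : N => (ξ : G → ℂ) n) := by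
    funext n
    rw [hm]
    simp only [Finset.sum_apply, Pi.smul_apply, smul_eq_mul, nsmul_eq_mul, Pi.mul_apply, Pi.natCast_apply]
  have h2 : ∑ ξ : IrrCharacter G, m ξ * b ξ = 1 := by
    rw [hπN, classInner_sum_left] at h1
    simp_rw [classInner_smul_left, hb] at h1
    exact_mod_cast h1
  obtain ⟨χ, hχ⟩ : ∃ χ, m χ * b χ ≠ 0 := by
    by_contra hc
    push Not at hc
    simp [hc] at h2
  have h3 := Finset.add_sum_erase Finset.univ (fun ξ => m ξ * b ξ) (Finset.mem_univ χ)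
  rw [h2] at h3
  have h4 : 0 < m χ * b χ := Nat.pos_of_ne_zero hχ
  have h5 : m χ * b χ = 1 := by omega
  have h6 : ∑ ξ ∈ Finset.univ.erase χ, m ξ * b ξ = 0 := by omega
  have hmχ : m χ = 1 := Nat.eq_one_of_mul_eq_one_right h5
  have hbχ : b χ = 1 := Nat.eq_one_of_mul_eq_one_left h5
  have h7 : ∀ ξ, ξ ≠ χ → m ξ = 0 ∨ b ξ = 0 := by
    intro ξ hξ
    rw [Finset.sum_eq_zero_iff] at h6
    exact mul_eq_zero.1 (h6 ξ (Finset.mem_erase.2 ⟨hξ, Finset.mem_univ _⟩))
  have hpc : ∀ ξ : IrrCharacter G, classInner π (ξ : G → ℂ) = m ξ := by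
    intro ξ
    rw [hm]
    exact classInner_sum_nsmul_irr m ξ
  -- the restriction of `χ`
  have hres : ∀ n : N, (χ : G → ℂ) n = ψ n := by
    have := finite_irr (G := N)
    have := Fintype.ofFinite (IrrCharacter N)
    have hcN : IsCharacter N (fun n : N => (χ : G → ℂ) n) := isCharacter_restrict N (isIrr_isCharacter χ.2)
    have h8 : (fun n : N => (χ : G → ℂ) n) = ψ := by
      refine classFunction_ext (isCharacter_isClassFunction hcN) (isIrr_isClassFunction hψ) fun η hη => ?_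
      by_cases hηψ : η = ψ
      · rw [hηψ, hb, hbχ, Nat.cast_one, classInner_irr_self hψ]
      · rw [classInner_irr_ne hψ hη (fun h => hηψ h.symm)]
        by_contra hne
        obtain ⟨g, hg⟩ := exists_conj_of_constituents N χ.2 hψ hη (by rw [hb, hbχ, Nat.cast_one]; exact one_ne_zero) hne
        apply hηψ
        rw [hg]
        funext n
        exact hinv g n
    exact fun n => congrFun h8 n
  refine ⟨χ, χ.2, hres, by rw [hpc, hmχ, Nat.cast_one], fun y => ?_, fun χ' hχ' h8 h9 => ?_⟩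
  · have h8 : ∑ n : N, ψ n * π (y * (n : G)⁻¹) =
        ∑ ξ : IrrCharacter G, (m ξ : ℂ) * ∑ n : N, ψ n * (ξ : G → ℂ) (y * (n : G)⁻¹) := by
      simp_rw [Finset.mul_sum]
      rw [Finset.sum_comm]
      refine Finset.sum_congr rfl fun n _ => ?_
      conv_lhs => rw [hm]
      simp only [Finset.sum_apply, Pi.smul_apply, nsmul_eq_mul, Pi.mul_apply, Pi.natCast_apply]
      rw [Finset.mul_sum]
      refine Finset.sum_congr rfl fun ξ _ => ?_
      ring
    rw [h8, Finset.sum_eq_single χ]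
    · rw [hmχ, Nat.cast_one, one_mul]
      exact (sum_eq_of_extends (isIrr_isCharacter χ.2) hψ hres y).symm
    · intro ξ _ hξ
      rcases h7 ξ hξ with h10 | h10
      · rw [h10, Nat.cast_zero, zero_mul]
      · rw [sum_eq_zero_of_not_over (isIrr_isCharacter ξ.2) hψ (by rw [hb, h10, Nat.cast_zero]), mul_zero]
    · exact fun h => absurd (Finset.mem_univ _) h
  · by_contra hne
    have h10 : (⟨χ', hχ'⟩ : IrrCharacter G) ≠ χ := fun h => hne (congrArg Subtype.val h)
    rcases h7 _ h10 with h11 | h11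
    · apply h8
      have := hpc ⟨χ', hχ'⟩
      rw [h11, Nat.cast_zero] at this
      exact this
    · apply h9
      have := hb ⟨χ', hχ'⟩
      rw [h11, Nat.cast_zero] at this
      exact this

end main

end Cfsg.Agent.H493.RatB
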