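import Cfsg.Agent.H493.RatB.Sq
import Cfsg.Agent.H498.SporOut
import Cfsg.Agent.H489.OutSpor
import Cfsg.Agent.NotCT.Orders
import Cfsg.Agent.H852.IMSuz

/-!
# S4891: the rows of the sporadic groups and of the Tits group, `p` odd (helper493)

`SporRows` : the witnesses for the pairs `(S, p)` with `p ^ 3 ∣ |S|`; `SporRows.spor`, `tits_of` : the fields of
`H145.BR.Rows`.
-/

set_option autoImplicit false

namespace Cfsg.Agent.H493.RatB

open Cfsg Cfsg.Agent.H145.BR

/-- the pairs with `p ^ 3 ∣ |S|` -/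
structure SporRows : Prop where
  m12_3 : ∀ {S : Type} [Group S], Spor.IsoM12 S → WitS 3 S
  m24_3 : ∀ {S : Type} [Group S], Spor.IsoM24 S → WitS 3 S
  j2_3 : ∀ {S : Type} [Group S], Spor.IsoJ2 S → WitS 3 S
  j3_3 : ∀ {S : Type} [Group S], Spor.IsoJ3 S → WitS 3 S
  j4_3 : ∀ {S : Type} [Group S], Spor.IsoJ4 S → WitS 3 S
  j4_11 : ∀ {S : Type} [Group S], Spor.IsoJ4 S → WitS 11 S
  co1_3 : ∀ {S : Type} [Group S], Spor.IsoCo1 S → WitS 3 S
  co1_5 : ∀ {S : Type} [Group S], Spor.IsoCo1 S → WitS 5 S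
  co2_3 : ∀ {S : Type} [Group S], Spor.IsoCo2 S → WitS 3 S
  co2_5 : ∀ {S : Type} [Group S], Spor.IsoCo2 S → WitS 5 S
  co3_3 : ∀ {S : Type} [Group S], Spor.IsoCo3 S → WitS 3 S
  co3_5 : ∀ {S : Type} [Group S], Spor.IsoCo3 S → WitS 5 S
  mcl_3 : ∀ {S : Type} [Group S], Spor.IsoMcL S → WitS 3 S
  mcl_5 : ∀ {S : Type} [Group S], Spor.IsoMcL S → WitS 5 S
  hs_5 : ∀ {S : Type} [Group S], Spor.IsoHS S → WitS 5 S
  suz_3 : ∀ {S : Type} [Group S], Spor.IsoSuz S → WitS 3 S
  he_3 : ∀ {S : Type} [Group S], Spor.IsoHe S → WitS 3 S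
  he_7 : ∀ {S : Type} [Group S], Spor.IsoHe S → WitS 7 S
  ru_3 : ∀ {S : Type} [Group S], Spor.IsoRu S → WitS 3 S
  ru_5 : ∀ {S : Type} [Group S], Spor.IsoRu S → WitS 5 S
  on_3 : ∀ {S : Type} [Group S], Spor.IsoON S → WitS 3 S
  on_7 : ∀ {S : Type} [Group S], Spor.IsoON S → WitS 7 S
  ly_3 : ∀ {S : Type} [Group S], Spor.IsoLy S → WitS 3 S
  ly_5 : ∀ {S : Type} [Group S], Spor.IsoLy S → WitS 5 S
  fi22_3 : ∀ {S : Type} [Group S], Spor.IsoFi22 S → WitS 3 S
  fi23_3 : ∀ {S : Type} [Group S], Spor.IsoFi23 S → WitS 3 S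
  fi24_3 : ∀ {S : Type} [Group S], Spor.IsoFi24' S → WitS 3 S
  fi24_7 : ∀ {S : Type} [Group S], Spor.IsoFi24' S → WitS 7 S
  hn_3 : ∀ {S : Type} [Group S], Spor.IsoHN S → WitS 3 S
  hn_5 : ∀ {S : Type} [Group S], Spor.IsoHN S → WitS 5 S
  th_3 : ∀ {S : Type} [Group S], Spor.IsoTh S → WitS 3 S
  th_5 : ∀ {S : Type} [Group S], Spor.IsoTh S → WitS 5 S
  b_3 : ∀ {S : Type} [Group S], Spor.IsoB S → WitS 3 S
  b_5 : ∀ {S : Type} [Group S], Spor.IsoB S → WitS 5 S
  m_3 : ∀ {S : Type} [Group S], Spor.IsoM S → WitS 3 S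
  m_5 : ∀ {S : Type} [Group S], Spor.IsoM S → WitS 5 S
  m_7 : ∀ {S : Type} [Group S], Spor.IsoM S → WitS 7 S
  m_13 : ∀ {S : Type} [Group S], Spor.IsoM S → WitS 13 S

/-- `p ^ 3 ∤ |S|` -/
theorem witS_of_cube {S : Type} [Group S] [Finite S] [IsSimpleGroup S] {p : ℕ} [hp : Fact p.Prime] (hp2 : p ≠ 2)
    (hna : ¬ IsMulCommutative S) (hd : p ∣ Nat.card S) (h3 : ¬ p ^ 3 ∣ Nat.card S) : WitS p S := by
  refine witS_of_sq' hp2 hna hd ?_
  by_contra h
  exact h3 ((hp.out.pow_dvd_iff_le_factorization Nat.card_pos.ne').2 (by omega))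

theorem wit_m11 (_ : SporRows) {p : ℕ} [hp : Fact p.Prime] (h2 : p ≠ 2) {S : Type} [Group S] [Finite S]
    [IsSimpleGroup S] (hna : ¬ IsMulCommutative S) (hd : p ∣ Nat.card S) (h : Spor.IsoM11 S) : WitS p S := by
  have hc : Nat.card S = 7920 := NotCT.Orders.m11 h
  have hm : p ∈ [2, 3, 5, 11] :=
    H852.IMSuz.prime_cases' hp.out [2, 3, 5, 11] (by decide) 4 (n := Nat.card S) hd (by rw [hc]; norm_num)
  simp only [List.mem_cons, List.not_mem_nil, or_false] at hm
  rcases hm with rfl | rfl | rfl | rfl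
  · exact absurd rfl h2
  · exact witS_of_cube h2 hna hd (by rw [hc]; norm_num)
  · exact witS_of_cube h2 hna hd (by rw [hc]; norm_num)
  · exact witS_of_cube h2 hna hd (by rw [hc]; norm_num)

theorem wit_m12 (R : SporRows) {p : ℕ} [hp : Fact p.Prime] (h2 : p ≠ 2) {S : Type} [Group S] [Finite S]
    [IsSimpleGroup S] (hna : ¬ IsMulCommutative S) (hd : p ∣ Nat.card S) (h : Spor.IsoM12 S) : WitS p S := by
  have hc : Nat.card S = 95040 := NotCT.Orders.m12 h
  have hm : p ∈ [2, 3, 5, 11] :=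
    H852.IMSuz.prime_cases' hp.out [2, 3, 5, 11] (by decide) 6 (n := Nat.card S) hd (by rw [hc]; norm_num)
  simp only [List.mem_cons, List.not_mem_nil, or_false] at hm
  rcases hm with rfl | rfl | rfl | rfl
  · exact absurd rfl h2
  · exact R.m12_3 h
  · exact witS_of_cube h2 hna hd (by rw [hc]; norm_num)
  · exact witS_of_cube h2 hna hd (by rw [hc]; norm_num)

theorem wit_m22 (_ : SporRows) {p : ℕ} [hp : Fact p.Prime] (h2 : p ≠ 2) {S : Type} [Group S] [Finite S]
    [IsSimpleGroup S] (hna : ¬ IsMulCommutative S) (hd : p ∣ Nat.card S) (h : Spor.IsoM22 S) : WitS p S := by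
  have hc : Nat.card S = 443520 := NotCT.Orders.m22 h
  have hm : p ∈ [2, 3, 5, 7, 11] :=
    H852.IMSuz.prime_cases' hp.out [2, 3, 5, 7, 11] (by decide) 7 (n := Nat.card S) hd (by rw [hc]; norm_num)
  simp only [List.mem_cons, List.not_mem_nil, or_false] at hm
  rcases hm with rfl | rfl | rfl | rfl | rfl
  · exact absurd rfl h2
  · exact witS_of_cube h2 hna hd (by rw [hc]; norm_num)
  · exact witS_of_cube h2 hna hd (by rw [hc]; norm_num)
  · exact witS_of_cube h2 hna hd (by rw [hc]; norm_num)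
  · exact witS_of_cube h2 hna hd (by rw [hc]; norm_num)

theorem wit_m23 (_ : SporRows) {p : ℕ} [hp : Fact p.Prime] (h2 : p ≠ 2) {S : Type} [Group S] [Finite S]
    [IsSimpleGroup S] (hna : ¬ IsMulCommutative S) (hd : p ∣ Nat.card S) (h : Spor.IsoM23 S) : WitS p S := by
  have hc : Nat.card S = 10200960 := NotCT.Orders.m23 h
  have hm : p ∈ [2, 3, 5, 7, 11, 23] :=
    H852.IMSuz.prime_cases' hp.out [2, 3, 5, 7, 11, 23] (by decide) 7 (n := Nat.card S) hd (by rw [hc]; norm_num)
  simp only [List.mem_cons, List.not_mem_nil, or_false] at hm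
  rcases hm with rfl | rfl | rfl | rfl | rfl | rfl
  · exact absurd rfl h2
  · exact witS_of_cube h2 hna hd (by rw [hc]; norm_num)
  · exact witS_of_cube h2 hna hd (by rw [hc]; norm_num)
  · exact witS_of_cube h2 hna hd (by rw [hc]; norm_num)
  · exact witS_of_cube h2 hna hd (by rw [hc]; norm_num)
  · exact witS_of_cube h2 hna hd (by rw [hc]; norm_num)

theorem wit_m24 (R : SporRows) {p : ℕ} [hp : Fact p.Prime] (h2 : p ≠ 2) {S : Type} [Group S] [Finite S]
    [IsSimpleGroup S] (hna : ¬ IsMulCommutative S) (hd : p ∣ Nat.card S) (h : Spor.IsoM24 S) : WitS p S := by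
  have hc : Nat.card S = 244823040 := NotCT.Orders.m24 h
  have hm : p ∈ [2, 3, 5, 7, 11, 23] :=
    H852.IMSuz.prime_cases' hp.out [2, 3, 5, 7, 11, 23] (by decide) 10 (n := Nat.card S) hd (by rw [hc]; norm_num)
  simp only [List.mem_cons, List.not_mem_nil, or_false] at hm
  rcases hm with rfl | rfl | rfl | rfl | rfl | rfl
  · exact absurd rfl h2
  · exact R.m24_3 h
  · exact witS_of_cube h2 hna hd (by rw [hc]; norm_num)
  · exact witS_of_cube h2 hna hd (by rw [hc]; norm_num)
  · exact witS_of_cube h2 hna hd (by rw [hc]; norm_num)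
  · exact witS_of_cube h2 hna hd (by rw [hc]; norm_num)

theorem wit_j1 (_ : SporRows) {p : ℕ} [hp : Fact p.Prime] (h2 : p ≠ 2) {S : Type} [Group S] [Finite S]
    [IsSimpleGroup S] (hna : ¬ IsMulCommutative S) (hd : p ∣ Nat.card S) (h : Spor.IsoJ1 S) : WitS p S := by
  have hc : Nat.card S = 175560 := NotCT.Orders.j1 h
  have hm : p ∈ [2, 3, 5, 7, 11, 19] :=
    H852.IMSuz.prime_cases' hp.out [2, 3, 5, 7, 11, 19] (by decide) 3 (n := Nat.card S) hd (by rw [hc]; norm_num)
  simp only [List.mem_cons, List.not_mem_nil, or_false] at hm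
  rcases hm with rfl | rfl | rfl | rfl | rfl | rfl
  · exact absurd rfl h2
  · exact witS_of_cube h2 hna hd (by rw [hc]; norm_num)
  · exact witS_of_cube h2 hna hd (by rw [hc]; norm_num)
  · exact witS_of_cube h2 hna hd (by rw [hc]; norm_num)
  · exact witS_of_cube h2 hna hd (by rw [hc]; norm_num)
  · exact witS_of_cube h2 hna hd (by rw [hc]; norm_num)

theorem wit_j2 (R : SporRows) {p : ℕ} [hp : Fact p.Prime] (h2 : p ≠ 2) {S : Type} [Group S] [Finite S]
    [IsSimpleGroup S] (hna : ¬ IsMulCommutative S) (hd : p ∣ Nat.card S) (h : Spor.IsoJ2 S) : WitS p S := by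
  have hc : Nat.card S = 604800 := NotCT.Orders.j2 h
  have hm : p ∈ [2, 3, 5, 7] :=
    H852.IMSuz.prime_cases' hp.out [2, 3, 5, 7] (by decide) 7 (n := Nat.card S) hd (by rw [hc]; norm_num)
  simp only [List.mem_cons, List.not_mem_nil, or_false] at hm
  rcases hm with rfl | rfl | rfl | rfl
  · exact absurd rfl h2
  · exact R.j2_3 h
  · exact witS_of_cube h2 hna hd (by rw [hc]; norm_num)
  · exact witS_of_cube h2 hna hd (by rw [hc]; norm_num)

theorem wit_j3 (R : SporRows) {p : ℕ} [hp : Fact p.Prime] (h2 : p ≠ 2) {S : Type} [Group S] [Finite S]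
    [IsSimpleGroup S] (hna : ¬ IsMulCommutative S) (hd : p ∣ Nat.card S) (h : Spor.IsoJ3 S) : WitS p S := by
  have hc : Nat.card S = 50232960 := NotCT.Orders.j3 h
  have hm : p ∈ [2, 3, 5, 17, 19] :=
    H852.IMSuz.prime_cases' hp.out [2, 3, 5, 17, 19] (by decide) 7 (n := Nat.card S) hd (by rw [hc]; norm_num)
  simp only [List.mem_cons, List.not_mem_nil, or_false] at hm
  rcases hm with rfl | rfl | rfl | rfl | rfl
  · exact absurd rfl h2
  · exact R.j3_3 h
  · exact witS_of_cube h2 hna hd (by rw [hc]; norm_num)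
  · exact witS_of_cube h2 hna hd (by rw [hc]; norm_num)
  · exact witS_of_cube h2 hna hd (by rw [hc]; norm_num)

theorem wit_j4 (R : SporRows) {p : ℕ} [hp : Fact p.Prime] (h2 : p ≠ 2) {S : Type} [Group S] [Finite S]
    [IsSimpleGroup S] (hna : ¬ IsMulCommutative S) (hd : p ∣ Nat.card S) (h : Spor.IsoJ4 S) : WitS p S := by
  have hc : Nat.card S = 86775571046077562880 := NotCT.Orders.j4 h
  have hm : p ∈ [2, 3, 5, 7, 11, 23, 29, 31, 37, 43] :=
    H852.IMSuz.prime_cases' hp.out [2, 3, 5, 7, 11, 23, 29, 31, 37, 43] (by decide) 21 (n := Nat.card S) hd (by rw [hc]; norm_num)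
  simp only [List.mem_cons, List.not_mem_nil, or_false] at hm
  rcases hm with rfl | rfl | rfl | rfl | rfl | rfl | rfl | rfl | rfl | rfl
  · exact absurd rfl h2
  · exact R.j4_3 h
  · exact witS_of_cube h2 hna hd (by rw [hc]; norm_num)
  · exact witS_of_cube h2 hna hd (by rw [hc]; norm_num)
  · exact R.j4_11 h
  · exact witS_of_cube h2 hna hd (by rw [hc]; norm_num)
  · exact witS_of_cube h2 hna hd (by rw [hc]; norm_num)
  · exact witS_of_cube h2 hna hd (by rw [hc]; norm_num)
  · exact witS_of_cube h2 hna hd (by rw [hc]; norm_num)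
  · exact witS_of_cube h2 hna hd (by rw [hc]; norm_num)

theorem wit_co1 (R : SporRows) {p : ℕ} [hp : Fact p.Prime] (h2 : p ≠ 2) {S : Type} [Group S] [Finite S]
    [IsSimpleGroup S] (hna : ¬ IsMulCommutative S) (hd : p ∣ Nat.card S) (h : Spor.IsoCo1 S) : WitS p S := by
  have hc : Nat.card S = 4157776806543360000 := NotCT.Orders.co1 h
  have hm : p ∈ [2, 3, 5, 7, 11, 13, 23] :=
    H852.IMSuz.prime_cases' hp.out [2, 3, 5, 7, 11, 13, 23] (by decide) 21 (n := Nat.card S) hd (by rw [hc]; norm_num)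
  simp only [List.mem_cons, List.not_mem_nil, or_false] at hm
  rcases hm with rfl | rfl | rfl | rfl | rfl | rfl | rfl
  · exact absurd rfl h2
  · exact R.co1_3 h
  · exact R.co1_5 h
  · exact witS_of_cube h2 hna hd (by rw [hc]; norm_num)
  · exact witS_of_cube h2 hna hd (by rw [hc]; norm_num)
  · exact witS_of_cube h2 hna hd (by rw [hc]; norm_num)
  · exact witS_of_cube h2 hna hd (by rw [hc]; norm_num)

theorem wit_co2 (R : SporRows) {p : ℕ} [hp : Fact p.Prime] (h2 : p ≠ 2) {S : Type} [Group S] [Finite S]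
    [IsSimpleGroup S] (hna : ¬ IsMulCommutative S) (hd : p ∣ Nat.card S) (h : Spor.IsoCo2 S) : WitS p S := by
  have hc : Nat.card S = 42305421312000 := NotCT.Orders.co2 h
  have hm : p ∈ [2, 3, 5, 7, 11, 23] :=
    H852.IMSuz.prime_cases' hp.out [2, 3, 5, 7, 11, 23] (by decide) 18 (n := Nat.card S) hd (by rw [hc]; norm_num)
  simp only [List.mem_cons, List.not_mem_nil, or_false] at hm
  rcases hm with rfl | rfl | rfl | rfl | rfl | rfl
  · exact absurd rfl h2
  · exact R.co2_3 h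
  · exact R.co2_5 h
  · exact witS_of_cube h2 hna hd (by rw [hc]; norm_num)
  · exact witS_of_cube h2 hna hd (by rw [hc]; norm_num)
  · exact witS_of_cube h2 hna hd (by rw [hc]; norm_num)

theorem wit_co3 (R : SporRows) {p : ℕ} [hp : Fact p.Prime] (h2 : p ≠ 2) {S : Type} [Group S] [Finite S]
    [IsSimpleGroup S] (hna : ¬ IsMulCommutative S) (hd : p ∣ Nat.card S) (h : Spor.IsoCo3 S) : WitS p S := by
  have hc : Nat.card S = 495766656000 := NotCT.Orders.co3 h
  have hm : p ∈ [2, 3, 5, 7, 11, 23] :=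
    H852.IMSuz.prime_cases' hp.out [2, 3, 5, 7, 11, 23] (by decide) 10 (n := Nat.card S) hd (by rw [hc]; norm_num)
  simp only [List.mem_cons, List.not_mem_nil, or_false] at hm
  rcases hm with rfl | rfl | rfl | rfl | rfl | rfl
  · exact absurd rfl h2
  · exact R.co3_3 h
  · exact R.co3_5 h
  · exact witS_of_cube h2 hna hd (by rw [hc]; norm_num)
  · exact witS_of_cube h2 hna hd (by rw [hc]; norm_num)
  · exact witS_of_cube h2 hna hd (by rw [hc]; norm_num)

theorem wit_mcl (R : SporRows) {p : ℕ} [hp : Fact p.Prime] (h2 : p ≠ 2) {S : Type} [Group S] [Finite S]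
    [IsSimpleGroup S] (hna : ¬ IsMulCommutative S) (hd : p ∣ Nat.card S) (h : Spor.IsoMcL S) : WitS p S := by
  have hc : Nat.card S = 898128000 := NotCT.Orders.mcl h
  have hm : p ∈ [2, 3, 5, 7, 11] :=
    H852.IMSuz.prime_cases' hp.out [2, 3, 5, 7, 11] (by decide) 7 (n := Nat.card S) hd (by rw [hc]; norm_num)
  simp only [List.mem_cons, List.not_mem_nil, or_false] at hm
  rcases hm with rfl | rfl | rfl | rfl | rfl
  · exact absurd rfl h2
  · exact R.mcl_3 h
  · exact R.mcl_5 h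
  · exact witS_of_cube h2 hna hd (by rw [hc]; norm_num)
  · exact witS_of_cube h2 hna hd (by rw [hc]; norm_num)

theorem wit_hs (R : SporRows) {p : ℕ} [hp : Fact p.Prime] (h2 : p ≠ 2) {S : Type} [Group S] [Finite S]
    [IsSimpleGroup S] (hna : ¬ IsMulCommutative S) (hd : p ∣ Nat.card S) (h : Spor.IsoHS S) : WitS p S := by
  have hc : Nat.card S = 44352000 := NotCT.Orders.hs h
  have hm : p ∈ [2, 3, 5, 7, 11] :=
    H852.IMSuz.prime_cases' hp.out [2, 3, 5, 7, 11] (by decide) 9 (n := Nat.card S) hd (by rw [hc]; norm_num)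
  simp only [List.mem_cons, List.not_mem_nil, or_false] at hm
  rcases hm with rfl | rfl | rfl | rfl | rfl
  · exact absurd rfl h2
  · exact witS_of_cube h2 hna hd (by rw [hc]; norm_num)
  · exact R.hs_5 h
  · exact witS_of_cube h2 hna hd (by rw [hc]; norm_num)
  · exact witS_of_cube h2 hna hd (by rw [hc]; norm_num)

theorem wit_suz (R : SporRows) {p : ℕ} [hp : Fact p.Prime] (h2 : p ≠ 2) {S : Type} [Group S] [Finite S]
    [IsSimpleGroup S] (hna : ¬ IsMulCommutative S) (hd : p ∣ Nat.card S) (h : Spor.IsoSuz S) : WitS p S := by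
  have hc : Nat.card S = 448345497600 := NotCT.Orders.suz h
  have hm : p ∈ [2, 3, 5, 7, 11, 13] :=
    H852.IMSuz.prime_cases' hp.out [2, 3, 5, 7, 11, 13] (by decide) 13 (n := Nat.card S) hd (by rw [hc]; norm_num)
  simp only [List.mem_cons, List.not_mem_nil, or_false] at hm
  rcases hm with rfl | rfl | rfl | rfl | rfl | rfl
  · exact absurd rfl h2
  · exact R.suz_3 h
  · exact witS_of_cube h2 hna hd (by rw [hc]; norm_num)
  · exact witS_of_cube h2 hna hd (by rw [hc]; norm_num)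
  · exact witS_of_cube h2 hna hd (by rw [hc]; norm_num)
  · exact witS_of_cube h2 hna hd (by rw [hc]; norm_num)

theorem wit_he (R : SporRows) {p : ℕ} [hp : Fact p.Prime] (h2 : p ≠ 2) {S : Type} [Group S] [Finite S]
    [IsSimpleGroup S] (hna : ¬ IsMulCommutative S) (hd : p ∣ Nat.card S) (h : Spor.IsoHe S) : WitS p S := by
  have hc : Nat.card S = 4030387200 := NotCT.Orders.he h
  have hm : p ∈ [2, 3, 5, 7, 17] :=
    H852.IMSuz.prime_cases' hp.out [2, 3, 5, 7, 17] (by decide) 10 (n := Nat.card S) hd (by rw [hc]; norm_num)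
  simp only [List.mem_cons, List.not_mem_nil, or_false] at hm
  rcases hm with rfl | rfl | rfl | rfl | rfl
  · exact absurd rfl h2
  · exact R.he_3 h
  · exact witS_of_cube h2 hna hd (by rw [hc]; norm_num)
  · exact R.he_7 h
  · exact witS_of_cube h2 hna hd (by rw [hc]; norm_num)

theorem wit_ru (R : SporRows) {p : ℕ} [hp : Fact p.Prime] (h2 : p ≠ 2) {S : Type} [Group S] [Finite S]
    [IsSimpleGroup S] (hna : ¬ IsMulCommutative S) (hd : p ∣ Nat.card S) (h : Spor.IsoRu S) : WitS p S := by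
  have hc : Nat.card S = 145926144000 := NotCT.Orders.ru h
  have hm : p ∈ [2, 3, 5, 7, 13, 29] :=
    H852.IMSuz.prime_cases' hp.out [2, 3, 5, 7, 13, 29] (by decide) 14 (n := Nat.card S) hd (by rw [hc]; norm_num)
  simp only [List.mem_cons, List.not_mem_nil, or_false] at hm
  rcases hm with rfl | rfl | rfl | rfl | rfl | rfl
  · exact absurd rfl h2
  · exact R.ru_3 h
  · exact R.ru_5 h
  · exact witS_of_cube h2 hna hd (by rw [hc]; norm_num)
  · exact witS_of_cube h2 hna hd (by rw [hc]; norm_num)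
  · exact witS_of_cube h2 hna hd (by rw [hc]; norm_num)

theorem wit_on (R : SporRows) {p : ℕ} [hp : Fact p.Prime] (h2 : p ≠ 2) {S : Type} [Group S] [Finite S]
    [IsSimpleGroup S] (hna : ¬ IsMulCommutative S) (hd : p ∣ Nat.card S) (h : Spor.IsoON S) : WitS p S := by
  have hc : Nat.card S = 460815505920 := NotCT.Orders.on h
  have hm : p ∈ [2, 3, 5, 7, 11, 19, 31] :=
    H852.IMSuz.prime_cases' hp.out [2, 3, 5, 7, 11, 19, 31] (by decide) 9 (n := Nat.card S) hd (by rw [hc]; norm_num)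
  simp only [List.mem_cons, List.not_mem_nil, or_false] at hm
  rcases hm with rfl | rfl | rfl | rfl | rfl | rfl | rfl
  · exact absurd rfl h2
  · exact R.on_3 h
  · exact witS_of_cube h2 hna hd (by rw [hc]; norm_num)
  · exact R.on_7 h
  · exact witS_of_cube h2 hna hd (by rw [hc]; norm_num)
  · exact witS_of_cube h2 hna hd (by rw [hc]; norm_num)
  · exact witS_of_cube h2 hna hd (by rw [hc]; norm_num)

theorem wit_ly (R : SporRows) {p : ℕ} [hp : Fact p.Prime] (h2 : p ≠ 2) {S : Type} [Group S] [Finite S]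
    [IsSimpleGroup S] (hna : ¬ IsMulCommutative S) (hd : p ∣ Nat.card S) (h : Spor.IsoLy S) : WitS p S := by
  have hc : Nat.card S = 51765179004000000 := NotCT.Orders.ly h
  have hm : p ∈ [2, 3, 5, 7, 11, 31, 37, 67] :=
    H852.IMSuz.prime_cases' hp.out [2, 3, 5, 7, 11, 31, 37, 67] (by decide) 8 (n := Nat.card S) hd (by rw [hc]; norm_num)
  simp only [List.mem_cons, List.not_mem_nil, or_false] at hm
  rcases hm with rfl | rfl | rfl | rfl | rfl | rfl | rfl | rfl
  · exact absurd rfl h2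
  · exact R.ly_3 h
  · exact R.ly_5 h
  · exact witS_of_cube h2 hna hd (by rw [hc]; norm_num)
  · exact witS_of_cube h2 hna hd (by rw [hc]; norm_num)
  · exact witS_of_cube h2 hna hd (by rw [hc]; norm_num)
  · exact witS_of_cube h2 hna hd (by rw [hc]; norm_num)
  · exact witS_of_cube h2 hna hd (by rw [hc]; norm_num)

theorem wit_fi22 (R : SporRows) {p : ℕ} [hp : Fact p.Prime] (h2 : p ≠ 2) {S : Type} [Group S] [Finite S]
    [IsSimpleGroup S] (hna : ¬ IsMulCommutative S) (hd : p ∣ Nat.card S) (h : Spor.IsoFi22 S) : WitS p S := by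
  have hc : Nat.card S = 64561751654400 := NotCT.Orders.fi22 h
  have hm : p ∈ [2, 3, 5, 7, 11, 13] :=
    H852.IMSuz.prime_cases' hp.out [2, 3, 5, 7, 11, 13] (by decide) 17 (n := Nat.card S) hd (by rw [hc]; norm_num)
  simp only [List.mem_cons, List.not_mem_nil, or_false] at hm
  rcases hm with rfl | rfl | rfl | rfl | rfl | rfl
  · exact absurd rfl h2
  · exact R.fi22_3 h
  · exact witS_of_cube h2 hna hd (by rw [hc]; norm_num)
  · exact witS_of_cube h2 hna hd (by rw [hc]; norm_num)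
  · exact witS_of_cube h2 hna hd (by rw [hc]; norm_num)
  · exact witS_of_cube h2 hna hd (by rw [hc]; norm_num)

theorem wit_fi23 (R : SporRows) {p : ℕ} [hp : Fact p.Prime] (h2 : p ≠ 2) {S : Type} [Group S] [Finite S]
    [IsSimpleGroup S] (hna : ¬ IsMulCommutative S) (hd : p ∣ Nat.card S) (h : Spor.IsoFi23 S) : WitS p S := by
  have hc : Nat.card S = 4089470473293004800 := NotCT.Orders.fi23 h
  have hm : p ∈ [2, 3, 5, 7, 11, 13, 17, 23] :=
    H852.IMSuz.prime_cases' hp.out [2, 3, 5, 7, 11, 13, 17, 23] (by decide) 18 (n := Nat.card S) hd (by rw [hc]; norm_num)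
  simp only [List.mem_cons, List.not_mem_nil, or_false] at hm
  rcases hm with rfl | rfl | rfl | rfl | rfl | rfl | rfl | rfl
  · exact absurd rfl h2
  · exact R.fi23_3 h
  · exact witS_of_cube h2 hna hd (by rw [hc]; norm_num)
  · exact witS_of_cube h2 hna hd (by rw [hc]; norm_num)
  · exact witS_of_cube h2 hna hd (by rw [hc]; norm_num)
  · exact witS_of_cube h2 hna hd (by rw [hc]; norm_num)
  · exact witS_of_cube h2 hna hd (by rw [hc]; norm_num)
  · exact witS_of_cube h2 hna hd (by rw [hc]; norm_num)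

theorem wit_fi24 (R : SporRows) {p : ℕ} [hp : Fact p.Prime] (h2 : p ≠ 2) {S : Type} [Group S] [Finite S]
    [IsSimpleGroup S] (hna : ¬ IsMulCommutative S) (hd : p ∣ Nat.card S) (h : Spor.IsoFi24' S) : WitS p S := by
  have hc : Nat.card S = 1255205709190661721292800 := NotCT.Orders.fi24 h
  have hm : p ∈ [2, 3, 5, 7, 11, 13, 17, 23, 29] :=
    H852.IMSuz.prime_cases' hp.out [2, 3, 5, 7, 11, 13, 17, 23, 29] (by decide) 21 (n := Nat.card S) hd (by rw [hc]; norm_num)
  simp only [List.mem_cons, List.not_mem_nil, or_false] at hm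
  rcases hm with rfl | rfl | rfl | rfl | rfl | rfl | rfl | rfl | rfl
  · exact absurd rfl h2
  · exact R.fi24_3 h
  · exact witS_of_cube h2 hna hd (by rw [hc]; norm_num)
  · exact R.fi24_7 h
  · exact witS_of_cube h2 hna hd (by rw [hc]; norm_num)
  · exact witS_of_cube h2 hna hd (by rw [hc]; norm_num)
  · exact witS_of_cube h2 hna hd (by rw [hc]; norm_num)
  · exact witS_of_cube h2 hna hd (by rw [hc]; norm_num)
  · exact witS_of_cube h2 hna hd (by rw [hc]; norm_num)

theorem wit_hn (R : SporRows) {p : ℕ} [hp : Fact p.Prime] (h2 : p ≠ 2) {S : Type} [Group S] [Finite S]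
    [IsSimpleGroup S] (hna : ¬ IsMulCommutative S) (hd : p ∣ Nat.card S) (h : Spor.IsoHN S) : WitS p S := by
  have hc : Nat.card S = 273030912000000 := NotCT.Orders.hn h
  have hm : p ∈ [2, 3, 5, 7, 11, 19] :=
    H852.IMSuz.prime_cases' hp.out [2, 3, 5, 7, 11, 19] (by decide) 14 (n := Nat.card S) hd (by rw [hc]; norm_num)
  simp only [List.mem_cons, List.not_mem_nil, or_false] at hm
  rcases hm with rfl | rfl | rfl | rfl | rfl | rfl
  · exact absurd rfl h2
  · exact R.hn_3 h
  · exact R.hn_5 h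
  · exact witS_of_cube h2 hna hd (by rw [hc]; norm_num)
  · exact witS_of_cube h2 hna hd (by rw [hc]; norm_num)
  · exact witS_of_cube h2 hna hd (by rw [hc]; norm_num)

theorem wit_th (R : SporRows) {p : ℕ} [hp : Fact p.Prime] (h2 : p ≠ 2) {S : Type} [Group S] [Finite S]
    [IsSimpleGroup S] (hna : ¬ IsMulCommutative S) (hd : p ∣ Nat.card S) (h : Spor.IsoTh S) : WitS p S := by
  have hc : Nat.card S = 90745943887872000 := NotCT.Orders.th h
  have hm : p ∈ [2, 3, 5, 7, 13, 19, 31] :=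
    H852.IMSuz.prime_cases' hp.out [2, 3, 5, 7, 13, 19, 31] (by decide) 15 (n := Nat.card S) hd (by rw [hc]; norm_num)
  simp only [List.mem_cons, List.not_mem_nil, or_false] at hm
  rcases hm with rfl | rfl | rfl | rfl | rfl | rfl | rfl
  · exact absurd rfl h2
  · exact R.th_3 h
  · exact R.th_5 h
  · exact witS_of_cube h2 hna hd (by rw [hc]; norm_num)
  · exact witS_of_cube h2 hna hd (by rw [hc]; norm_num)
  · exact witS_of_cube h2 hna hd (by rw [hc]; norm_num)
  · exact witS_of_cube h2 hna hd (by rw [hc]; norm_num)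

theorem wit_b (R : SporRows) {p : ℕ} [hp : Fact p.Prime] (h2 : p ≠ 2) {S : Type} [Group S] [Finite S]
    [IsSimpleGroup S] (hna : ¬ IsMulCommutative S) (hd : p ∣ Nat.card S) (h : Spor.IsoB S) : WitS p S := by
  have hc : Nat.card S = 4154781481226426191177580544000000 := NotCT.Orders.b h
  have hm : p ∈ [2, 3, 5, 7, 11, 13, 17, 19, 23, 31, 47] :=
    H852.IMSuz.prime_cases' hp.out [2, 3, 5, 7, 11, 13, 17, 19, 23, 31, 47] (by decide) 41 (n := Nat.card S) hd (by rw [hc]; norm_num)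
  simp only [List.mem_cons, List.not_mem_nil, or_false] at hm
  rcases hm with rfl | rfl | rfl | rfl | rfl | rfl | rfl | rfl | rfl | rfl | rfl
  · exact absurd rfl h2
  · exact R.b_3 h
  · exact R.b_5 h
  · exact witS_of_cube h2 hna hd (by rw [hc]; norm_num)
  · exact witS_of_cube h2 hna hd (by rw [hc]; norm_num)
  · exact witS_of_cube h2 hna hd (by rw [hc]; norm_num)
  · exact witS_of_cube h2 hna hd (by rw [hc]; norm_num)
  · exact witS_of_cube h2 hna hd (by rw [hc]; norm_num)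
  · exact witS_of_cube h2 hna hd (by rw [hc]; norm_num)
  · exact witS_of_cube h2 hna hd (by rw [hc]; norm_num)
  · exact witS_of_cube h2 hna hd (by rw [hc]; norm_num)

theorem wit_m (R : SporRows) {p : ℕ} [hp : Fact p.Prime] (h2 : p ≠ 2) {S : Type} [Group S] [Finite S]
    [IsSimpleGroup S] (hna : ¬ IsMulCommutative S) (hd : p ∣ Nat.card S) (h : Spor.IsoM S) : WitS p S := by
  have hc : Nat.card S = 808017424794512875886459904961710757005754368000000000 := NotCT.Orders.m h
  have hm : p ∈ [2, 3, 5, 7, 11, 13, 17, 19, 23, 29, 31, 41, 47, 59, 71] :=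
    H852.IMSuz.prime_cases' hp.out [2, 3, 5, 7, 11, 13, 17, 19, 23, 29, 31, 41, 47, 59, 71] (by decide) 46 (n := Nat.card S) hd (by rw [hc]; norm_num)
  simp only [List.mem_cons, List.not_mem_nil, or_false] at hm
  rcases hm with rfl | rfl | rfl | rfl | rfl | rfl | rfl | rfl | rfl | rfl | rfl | rfl | rfl | rfl | rfl
  · exact absurd rfl h2
  · exact R.m_3 h
  · exact R.m_5 h
  · exact R.m_7 h
  · exact witS_of_cube h2 hna hd (by rw [hc]; norm_num)
  · exact R.m_13 h
  · exact witS_of_cube h2 hna hd (by rw [hc]; norm_num)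
  · exact witS_of_cube h2 hna hd (by rw [hc]; norm_num)
  · exact witS_of_cube h2 hna hd (by rw [hc]; norm_num)
  · exact witS_of_cube h2 hna hd (by rw [hc]; norm_num)
  · exact witS_of_cube h2 hna hd (by rw [hc]; norm_num)
  · exact witS_of_cube h2 hna hd (by rw [hc]; norm_num)
  · exact witS_of_cube h2 hna hd (by rw [hc]; norm_num)
  · exact witS_of_cube h2 hna hd (by rw [hc]; norm_num)
  · exact witS_of_cube h2 hna hd (by rw [hc]; norm_num)

theorem wit_tits (R : ∀ {S : Type} [Group S], Lie.IsoTits S → WitS 3 S) {p : ℕ} [hp : Fact p.Prime] (h2 : p ≠ 2) {S : Type} [Group S] [Finite S]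
    [IsSimpleGroup S] (hna : ¬ IsMulCommutative S) (hd : p ∣ Nat.card S) (h : Lie.IsoTits S) : WitS p S := by
  have hc : Nat.card S = 17971200 := NotCT.Orders.tits h
  have hm : p ∈ [2, 3, 5, 13] :=
    H852.IMSuz.prime_cases' hp.out [2, 3, 5, 13] (by decide) 11 (n := Nat.card S) hd (by rw [hc]; norm_num)
  simp only [List.mem_cons, List.not_mem_nil, or_false] at hm
  rcases hm with rfl | rfl | rfl | rfl
  · exact absurd rfl h2
  · exact R h
  · exact witS_of_cube h2 hna hd (by rw [hc]; norm_num)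
  · exact witS_of_cube h2 hna hd (by rw [hc]; norm_num)

/-- the witnesses for all the sporadic groups -/
theorem SporRows.wit (R : SporRows) {p : ℕ} [hp : Fact p.Prime] (h2 : p ≠ 2) {S : Type} [Group S] [Finite S]
    [IsSimpleGroup S] (hna : ¬ IsMulCommutative S) (hd : p ∣ Nat.card S) (h : IsSporadicGroup S) : WitS p S := by
  rcases h with h | h | h | h | h | h | h | h | h | h | h | h | h | h | h | h | h | h | h | h | h | h | h | h | h | h
  · exact wit_m11 R h2 hna hd h
  · exact wit_m12 R h2 hna hd h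
  · exact wit_m22 R h2 hna hd h
  · exact wit_m23 R h2 hna hd h
  · exact wit_m24 R h2 hna hd h
  · exact wit_j1 R h2 hna hd h
  · exact wit_j2 R h2 hna hd h
  · exact wit_j3 R h2 hna hd h
  · exact wit_j4 R h2 hna hd h
  · exact wit_co1 R h2 hna hd h
  · exact wit_co2 R h2 hna hd h
  · exact wit_co3 R h2 hna hd h
  · exact wit_mcl R h2 hna hd h
  · exact wit_hs R h2 hna hd h
  · exact wit_suz R h2 hna hd h
  · exact wit_he R h2 hna hd h
  · exact wit_ru R h2 hna hd h
  · exact wit_on R h2 hna hd h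
  · exact wit_ly R h2 hna hd h
  · exact wit_fi22 R h2 hna hd h
  · exact wit_fi23 R h2 hna hd h
  · exact wit_fi24 R h2 hna hd h
  · exact wit_hn R h2 hna hd h
  · exact wit_th R h2 hna hd h
  · exact wit_b R h2 hna hd h
  · exact wit_m R h2 hna hd h

/-- **the field `spor` of `Rows`** -/
theorem SporRows.spor (R : SporRows) {p : ℕ} [hp : Fact p.Prime] (h2 : p ≠ 2) :
    RowForT p (fun X _ => IsSporadicGroup X) :=
  fun _ _ _ _ hna hd _ h => rowT_of_witS h2 (H498.SporOut.index_le_two h) (R.wit h2 hna hd h)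

/-- **the field `tits` of `Rows`** -/
theorem tits_of (R : ∀ {S : Type} [Group S], Lie.IsoTits S → WitS 3 S) {p : ℕ} [hp : Fact p.Prime] (h2 : p ≠ 2) :
    RowForT p (fun X _ => Lie.IsoTits X) := by
  intro X _ _ _ hna hd _ h
  refine rowT_of_witS h2 ?_ (wit_tits R h2 hna hd h)
  have h1 := Cfsg.Agent.H489.card_out_tits h
  rwa [H55.OutGen.card_out_eq_index] at h1

end Cfsg.Agent.H493.RatB
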